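import Mathlib

/-!
# Powers by the characteristic under trace-like functionals
-/

set_option autoImplicit false
set_option linter.style.haveILetI false

namespace CfsgLib.CRWeights

section Perm

variable {X k : Type*} [Fintype X] [CommRing k] {p : ℕ} [hp : Fact p.Prime] [CharP k p]

/-- A function invariant under a permutation of order dividing the characteristic has the sum of
its values at the fixed points. -/
theorem sum_eq_fixed (σ : Equiv.Perm X) (hσ : σ ^ p = 1) (f : X → k) (hf : ∀ x, f (σ x) = f x)
    [DecidablePred fun x => σ x = x] :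
    ∑ x, f x = ∑ x ∈ Finset.univ.filter (fun x => σ x = x), f x := by
  classical
  let H := Subgroup.zpowers σ
  have hinv : ∀ (h : H) (x : X), f ((h : Equiv.Perm X) x) = f x := by
    have key : H ≤
        { carrier := {τ : Equiv.Perm X | ∀ x, f (τ x) = f x}
          one_mem' := fun x => rfl
          mul_mem' := fun {a b} ha hb x => by rw [Equiv.Perm.mul_apply, ha, hb]
          inv_mem' := fun {a} ha x => by
            have := ha (a⁻¹ x); simpa using this.symm } :=
      Subgroup.zpowers_le.mpr hf
    exact fun h x => key h.2 x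
  have hord : Nat.card H ∣ p := by
    rw [Nat.card_zpowers]; exact orderOf_dvd_of_pow_eq_one hσ
  rw [← Finset.sum_filter_add_sum_filter_not Finset.univ (fun x => σ x = x) f, add_eq_left]
  let q : X → MulAction.orbitRel.Quotient H X := Quotient.mk _
  rw [← Finset.sum_fiberwise (Finset.univ.filter fun x => ¬ σ x = x) q f]
  refine Finset.sum_eq_zero fun o _ => ?_
  induction o using Quotient.inductionOn with | _ x₀ => ?_
  have hmem : ∀ x, q x = Quotient.mk _ x₀ → ∃ h : H, (h : Equiv.Perm X) x₀ = x := by
    intro x hx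
    obtain ⟨h, hh⟩ := Quotient.exact hx
    exact ⟨h, hh⟩
  rw [Finset.sum_congr rfl (fun x hx => ?_), Finset.sum_const]
  rotate_left
  · exact f x₀
  · obtain ⟨h, rfl⟩ := hmem x (Finset.mem_filter.1 hx).2
    exact hinv h x₀
  set S := (Finset.univ.filter fun x => ¬ σ x = x).filter fun x => q x = Quotient.mk _ x₀
  rcases S.eq_empty_or_nonempty with hS | ⟨x₁, hx₁⟩
  · rw [hS, Finset.card_empty, zero_smul]
  · have hx₁' := Finset.mem_filter.1 hx₁
    have hne : ¬ σ x₁ = x₁ := (Finset.mem_filter.1 hx₁'.1).2
    have hS' : ∀ x, x ∈ S ↔ x ∈ MulAction.orbit H x₁ := by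
      intro x
      obtain ⟨h₁, e₁⟩ := hmem x₁ hx₁'.2
      constructor
      · intro hx
        obtain ⟨h, e⟩ := hmem x (Finset.mem_filter.1 hx).2
        refine ⟨h * h₁⁻¹, ?_⟩
        show ((h * h₁⁻¹ : H) : Equiv.Perm X) x₁ = x
        rw [← e₁, Subgroup.coe_mul, Subgroup.coe_inv, Equiv.Perm.mul_apply, ← e]
        simp
      · rintro ⟨h, rfl⟩
        refine Finset.mem_filter.2 ⟨Finset.mem_filter.2 ⟨Finset.mem_univ _, fun e => hne ?_⟩, ?_⟩
        · have hc : Commute σ (h : Equiv.Perm X) := by
            obtain ⟨i, hi⟩ := Subgroup.mem_zpowers_iff.1 h.2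
            rw [← hi]; exact (Commute.refl σ).zpow_right i
          refine (h : Equiv.Perm X).injective ?_
          rw [← Equiv.Perm.mul_apply, ← hc.eq, Equiv.Perm.mul_apply]
          exact e
        · exact (Quotient.sound (MulAction.orbitRel_apply.2 (MulAction.mem_orbit x₁ h))).trans hx₁'.2
    have hcard : S.card = Nat.card (MulAction.orbit H x₁) := by
      rw [← Nat.card_eq_finsetCard]
      exact Nat.card_congr (Equiv.subtypeEquivRight hS')
    have hdvd : Nat.card (MulAction.orbit H x₁) ∣ p :=
      (Dvd.intro _ (by rw [← Nat.card_prod]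
                       exact Nat.card_congr (MulAction.orbitProdStabilizerEquivGroup H x₁))).trans hord
    rcases (Nat.dvd_prime hp.out).1 hdvd with h1 | h1
    · haveI := ((Nat.card_eq_one_iff_unique).1 h1).1
      have := congrArg Subtype.val (Subsingleton.elim
        (⟨σ x₁, MulAction.mem_orbit x₁ (⟨σ, Subgroup.mem_zpowers σ⟩ : H)⟩ : MulAction.orbit H x₁)
        ⟨x₁, MulAction.mem_orbit_self x₁⟩)
      exact absurd this hne
    · rw [hcard, h1, nsmul_eq_mul, CharP.cast_eq_zero, zero_mul]

end Perm

section Pow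

variable {k A : Type*} [CommRing k] [Ring A] {p : ℕ} [hp : Fact p.Prime] [CharP k p]

theorem sum_pow_eq {ι : Type*} [Fintype ι] (x : ι → A) (n : ℕ) :
    (∑ j, x j) ^ n = ∑ f : Fin n → ι, (List.ofFn fun i => x (f i)).prod := by
  induction n with
  | zero => simp
  | succ n ih =>
    rw [pow_succ', ih, Finset.sum_mul_sum,
      ← (Fin.consEquiv fun _ : Fin (n + 1) => ι).sum_comp, Fintype.sum_prod_type]
    refine Finset.sum_congr rfl fun j _ => Finset.sum_congr rfl fun f _ => ?_
    simp [List.ofFn_succ, Fin.consEquiv]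

/-- A trace-like functional is additive on `p`-th powers. -/
theorem map_sum_pow (φ : A →+ k) (hφ : ∀ x y, φ (x * y) = φ (y * x)) {ι : Type*} [Fintype ι]
    (x : ι → A) : φ ((∑ j, x j) ^ p) = ∑ j, φ (x j ^ p) := by
  classical
  obtain ⟨m, hm⟩ : ∃ m, p = m + 1 := ⟨p - 1, by have := hp.out.two_le; omega⟩
  have hchar : CharP k (m + 1) := hm ▸ inferInstance
  have hprime : Fact (m + 1).Prime := ⟨hm ▸ hp.out⟩
  rw [hm, sum_pow_eq, map_sum]
  let σ : Equiv.Perm (Fin (m + 1) → ι) := Equiv.arrowCongr (finRotate (m + 1)).symm (Equiv.refl ι)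
  have hσf : ∀ f i, σ f i = f (finRotate (m + 1) i) := fun f i => by simp [σ, Equiv.arrowCongr]
  have hσn : ∀ n f i, (σ ^ n) f i = f ((finRotate (m + 1) ^ n) i) := by
    intro n
    induction n with
    | zero => simp
    | succ n ih =>
      intro f i
      rw [pow_succ, Equiv.Perm.mul_apply, ih, hσf, pow_succ', Equiv.Perm.mul_apply]
  have hrot : finRotate (m + 1) ^ (m + 1) = 1 := by
    have h : ∀ n i, ((finRotate (m + 1) ^ n) i).val = (i.val + n) % (m + 1) := by
      intro n
      induction n with
      | zero => intro i; simp [Nat.mod_eq_of_lt i.isLt]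
      | succ n ih =>
        intro i
        rw [pow_succ', Equiv.Perm.mul_apply, finRotate_apply, Fin.val_add, ih, Fin.val_one',
          ← Nat.add_mod, add_assoc]
    refine Equiv.ext fun i => Fin.ext ?_
    rw [h, Nat.add_mod_right, Nat.mod_eq_of_lt i.isLt, Equiv.Perm.one_apply]
  have hconst : ∀ f, σ f = f → ∀ i, f i = f 0 := by
    intro f hf i
    induction i using Fin.induction with
    | zero => rfl
    | succ i ih =>
      have h1 := congrFun hf i.castSucc
      rw [hσf, finRotate_apply, Fin.coeSucc_eq_succ] at h1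
      rw [h1, ih]
  rw [sum_eq_fixed (p := m + 1) σ ?_ _ ?_]
  · refine Finset.sum_nbij' (fun f => f 0) (fun j _ => j) ?_ ?_ ?_ ?_ ?_
    · simp
    · intro j _
      refine Finset.mem_filter.2 ⟨Finset.mem_univ _, ?_⟩
      exact funext fun i => hσf _ i
    · intro f hf
      exact funext fun i => (hconst f (Finset.mem_filter.1 hf).2 i).symm
    · intro j _; rfl
    · intro f hf
      have hc := hconst f (Finset.mem_filter.1 hf).2
      congr 1
      rw [show (fun i => x (f i)) = fun _ => x (f 0) from funext fun i => by rw [hc i]]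
      simp [List.ofFn_const, List.prod_replicate, pow_succ']
  · refine Equiv.ext fun f => funext fun i => ?_
    rw [hσn, hrot]; simp
  · intro f
    have e1 : (List.ofFn fun i => x (f i)) = x (f 0) :: List.ofFn fun i : Fin m => x (f i.succ) :=
      List.ofFn_succ ..
    have e2 : (List.ofFn fun i => x (σ f i)) =
        (List.ofFn fun i : Fin m => x (f i.succ)) ++ [x (f 0)] := by
      rw [List.ofFn_succ', List.concat_eq_append]
      congr 2
      · funext i
        rw [hσf, finRotate_apply, Fin.coeSucc_eq_succ]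
      · rw [hσf, finRotate_apply, Fin.last_add_one]
    rw [e1, e2, List.prod_cons, List.prod_append, List.prod_singleton, hφ]

theorem trace_pow_char {d : Type*} [Fintype d] [DecidableEq d] (M : Matrix d d k) :
    (M ^ p).trace = M.trace ^ p := by
  have hp2 := hp.out.two_le
  conv_lhs => rw [M.matrix_eq_sum_single, ← Fintype.sum_prod_type']
  rw [show Matrix.trace = ⇑(Matrix.traceAddMonoidHom d k) from rfl,
    map_sum_pow (Matrix.traceAddMonoidHom d k) Matrix.trace_mul_comm, Fintype.sum_prod_type]
  have key : ∀ (n : ℕ) (a b : d) (c : k),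
      (Matrix.single a b c) ^ (n + 2) = if a = b then Matrix.single a b (c ^ (n + 2)) else 0 := by
    intro n a b c
    rcases eq_or_ne a b with rfl | hab
    · rw [if_pos rfl]
      induction n with
      | zero => rw [pow_two, Matrix.single_mul_single_same, ← pow_two]
      | succ n ih => rw [show n + 1 + 2 = (n + 2) + 1 from rfl, pow_succ, ih,
          Matrix.single_mul_single_same, ← pow_succ]
    · rw [if_neg hab, show n + 2 = 2 + n by omega, pow_add, pow_two,
        Matrix.single_mul_single_of_ne _ _ _ _ hab.symm, zero_mul]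
  obtain ⟨n, hn⟩ : ∃ n, p = n + 2 := ⟨p - 2, by omega⟩
  simp only [Matrix.traceAddMonoidHom_apply]
  rw [Matrix.trace, sum_pow_char]
  refine Finset.sum_congr rfl fun a _ => ?_
  rw [Finset.sum_eq_single a, hn, key, if_pos rfl, Matrix.trace_single_eq_same]
  · rfl
  · intro b _ hb
    rw [hn, key, if_neg (Ne.symm hb), Matrix.trace_zero]
  · simp

theorem trace_pow_char_pow {d : Type*} [Fintype d] [DecidableEq d] (M : Matrix d d k) (n : ℕ) :
    (M ^ p ^ n).trace = M.trace ^ p ^ n := by
  induction n with
  | zero => simp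
  | succ n ih => rw [pow_succ, pow_mul, trace_pow_char, ih, ← pow_mul]

end Pow

end CfsgLib.CRWeights
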