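import Cfsg.Agent.CRWeights.Main
import Cfsg.Agent.StCh.Chev
import Cfsg.Agent.Chev.Struct
import Cfsg.Agent.Chev.RadCent
import Cfsg.Agent.Chev.RankOne

/-!
# The split data of the Chevalley groups
-/

set_option autoImplicit false
set_option linter.style.haveILetI false
set_option linter.unusedSectionVars false

namespace CfsgLib.Chev

open Cfsg.Lie Matrix CfsgLib.BN CfsgLib.StCh CfsgLib.CRWeights
open scoped MatrixGroups

attribute [local instance] torus_normal

namespace Tab

variable {D : ChevalleyDatum}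

namespace Good

variable {T : Tab D} (G : T.Good) {F : Type*} [Field F]
include G

/-! ### The action of a fundamental reflection on the torus -/

theorem ns_hr_simple (i k : Fin D.rank) (u : Fˣ) :
    ∃ l : Fˣ, G.full.ns F i * G.full.hr (D.simple k) (u : F) * (G.full.ns F i)⁻¹ =
      G.full.hr (D.simple k) (u : F) * G.full.hr (D.simple i) (l : F) := by
  have hp := G.full.simple_lt k.isLt
  obtain ⟨hk, -, hneg, -, hcor, -, hs1, -⟩ := G.full.reflT_spec i.isLt hp
  have e : G.full.ns F i * G.full.hr (D.simple k) (u : F) * (G.full.ns F i)⁻¹ =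
      G.full.hr (T.reflT i (D.simple k)) (u : F) :=
    G.full.hr_of_conj (G.full.ns F i)
      (η := (T.sgn i (D.simple k) : F))
      (by rcases hs1 with h | h <;> rw [h] <;> simp) (G.full.ns_conj i.isLt hp)
      (fun v => by rw [G.full.ns_conj i.isLt (Cert.negR_lt hp), G.full.sgn_neg_eq i.isLt hp, hneg])
      (fun v hv => by
        rw [G.full.hr_mul hp hv (neg_ne_zero.mpr one_ne_zero), mul_neg, mul_one]) u.ne_zero
  refine ⟨u ^ (-(T.pairT (D.simple k) (D.simple i))), ?_⟩
  rw [e, G.full.hr_eq_hT hk u.ne_zero, ← G.full.hT_single, ← G.full.hT_single, ← map_mul,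
    Units.mk0_val]
  refine congrArg (T.hT F) (funext fun j => ?_)
  rw [(hcor j j.isLt).2, Pi.mul_apply,
    show T.cor (D.simple k) j = _ from G.cor_simple k j]
  by_cases h1 : j = i
  · subst h1
    rw [if_pos rfl, Pi.mulSingle_eq_same]
    by_cases h2 : j = k
    · subst h2; rw [if_pos rfl, Pi.mulSingle_eq_same, sub_eq_add_neg, _root_.zpow_add,
        _root_.zpow_one]
    · rw [if_neg h2, Pi.mulSingle_eq_of_ne h2, one_mul, zero_sub]
  · rw [if_neg (fun h => h1 (Fin.ext h)), Pi.mulSingle_eq_of_ne h1, sub_zero, mul_one]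
    by_cases h2 : j = k
    · subst h2; rw [if_pos rfl, Pi.mulSingle_eq_same, _root_.zpow_one]
    · rw [if_neg h2, Pi.mulSingle_eq_of_ne h2, _root_.zpow_zero]

theorem ns_hT_exists (i : Fin D.rank) (c : Fin D.rank → Fˣ) :
    ∃ l : Fˣ, (G.full.ns F i)⁻¹ * T.hT F c * G.full.ns F i =
      T.hT F c * G.full.hr (D.simple i) (l : F) := by
  have h1 : ∀ c, ∃ l : Fˣ, G.full.ns F i * T.hT F c * (G.full.ns F i)⁻¹ =
      T.hT F (c * Pi.mulSingle i l) := by
    intro c
    induction c using G.full.hT_induction with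
    | h1 => exact ⟨1, by simp⟩
    | hm a b ha hb =>
      obtain ⟨l, hl⟩ := ha
      obtain ⟨m, hm⟩ := hb
      refine ⟨l * m, ?_⟩
      rw [Pi.mulSingle_mul, mul_mul_mul_comm, map_mul (T.hT F) (a * _), ← hl, ← hm, map_mul]
      group
    | hs k u =>
      obtain ⟨l, hl⟩ := G.ns_hr_simple i k u
      exact ⟨l, by rw [map_mul, G.full.hT_single, G.full.hT_single, hl]⟩
  obtain ⟨l, hl⟩ := h1 c
  refine ⟨l, ?_⟩
  rw [map_mul, G.full.hT_single] at hl
  rw [← hl]
  obtain ⟨d, hd⟩ := G.hr_simple_mem i (neg_ne_zero.mpr (one_ne_zero (α := F)))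
  rw [← G.full.ns_sq i.isLt] at hd
  calc (G.full.ns F i)⁻¹ * T.hT F c * G.full.ns F i
      = (G.full.ns F i * G.full.ns F i)⁻¹ * (G.full.ns F i * T.hT F c * (G.full.ns F i)⁻¹) *
          (G.full.ns F i * G.full.ns F i) := by group
    _ = G.full.ns F i * T.hT F c * (G.full.ns F i)⁻¹ := by
        rw [hd, hl, ← G.full.hT_single, ← map_mul, ← map_inv, ← map_mul, ← map_mul,
          mul_comm d⁻¹, inv_mul_cancel_right]

/-! ### Words in a set of fundamental reflections -/

/-- The torus of a set of nodes. -/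
def torI (F : Type*) [Field F] (I : Set (Fin D.rank)) : Subgroup (GL D.Idx F) :=
  Subgroup.closure {g | ∃ j ∈ I, ∃ u : Fˣ, g = G.full.hr (D.simple j) (u : F)}

theorem hr_mem_torI {I : Set (Fin D.rank)} {j : Fin D.rank} (hj : j ∈ I) (u : Fˣ) :
    G.full.hr (D.simple j) (u : F) ∈ G.torI F I := Subgroup.subset_closure ⟨j, hj, u, rfl⟩

theorem ns_torI {I : Set (Fin D.rank)} {k : Fin D.rank} (hk : k ∈ I) {c : GL D.Idx F}
    (hc : c ∈ G.torI F I) : G.full.ns F k * c * (G.full.ns F k)⁻¹ ∈ G.torI F I := by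
  induction hc using Subgroup.closure_induction with
  | mem g hg =>
    obtain ⟨j, hj, u, rfl⟩ := hg
    obtain ⟨l, hl⟩ := G.ns_hr_simple k j u
    rw [hl]
    exact mul_mem (G.hr_mem_torI hj u) (G.hr_mem_torI hk l)
  | one => simp
  | mul a b _ _ ha hb =>
    rw [show G.full.ns F k * (a * b) * (G.full.ns F k)⁻¹ = (G.full.ns F k * a * (G.full.ns F k)⁻¹) *
      (G.full.ns F k * b * (G.full.ns F k)⁻¹) by group]
    exact mul_mem ha hb
  | inv a _ ha =>
    rw [show G.full.ns F k * a⁻¹ * (G.full.ns F k)⁻¹ =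
      (G.full.ns F k * a * (G.full.ns F k)⁻¹)⁻¹ by group]
    exact inv_mem ha

theorem nw_torI {I : Set (Fin D.rank)} : ∀ {L : List (Fin D.rank)}, (∀ a ∈ L, a ∈ I) →
    ∀ {c : GL D.Idx F}, c ∈ G.torI F I →
      ∃ d ∈ G.torI F I, G.full.nw F L * c = d * G.full.nw F L := by
  intro L
  induction L with
  | nil => intro _ c hc; exact ⟨c, hc, by simp [Full.nw]⟩
  | cons k L ih =>
    intro hL c hc
    obtain ⟨d, hd, e⟩ := ih (fun a ha => hL a (List.mem_cons_of_mem _ ha)) hc
    refine ⟨_, G.ns_torI (hL k List.mem_cons_self) hd, ?_⟩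
    rw [G.nw_cons, mul_assoc, e]
    group

/-- Deletion inside a set of nodes. -/
theorem deletion_in {I : Set (Fin D.rank)} : ∀ (L : List (Fin D.rank)) (i : Fin D.rank),
    (∀ a ∈ L, a ∈ I) → ¬ IsPos D (G.full.pw L (G.full.simp' i)).val →
    ∃ L' : List (Fin D.rank), L'.length + 1 = L.length ∧ (∀ a ∈ L', a ∈ I) ∧
      ∃ c ∈ G.torI F I, G.full.nw F L * G.full.ns F i = c * G.full.nw F L' := by
  intro L
  induction L with
  | nil => intro i _ h; exact absurd (G.pos_simp i) h
  | cons k L ih =>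
    intro i hI h
    have hk : k ∈ I := hI k List.mem_cons_self
    have hL : ∀ a ∈ L, a ∈ I := fun a ha => hI a (List.mem_cons_of_mem _ ha)
    by_cases hp : IsPos D (G.full.pw L (G.full.simp' i)).val
    · have hs : G.full.pw L (G.full.simp' i) = G.full.simp' k := by
        by_contra hne
        exact h (by rw [G.pw_cons]; exact (G.refl_pos k hp hne).1)
      obtain ⟨c, hc⟩ := G.rootAct_nw (F := F) L
      set s := G.full.simp' i
      set v := G.full.nw F L
      have h1 := (hc s).2.2.2 1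
      have h2 := (hc (negF s)).2.2.2 (-(1 : F)⁻¹)
      rw [hs, mul_one] at h1
      rw [(hc s).1, hs, (hc s).2.1] at h2
      have e : v * G.full.ns F i * v⁻¹ = G.full.nr (D.simple k) (c s : F) := by
        have e3 : (((c s)⁻¹ : Fˣ) : F) * -(1 : F)⁻¹ = -(c s : F)⁻¹ := by simp
        rw [e3] at h2
        have h1' : v * G.full.x (D.simple i) 1 * v⁻¹ = G.full.x (D.simple k) (c s : F) := h1
        have h2' : v * G.full.x (negR D (D.simple i)) (-(1 : F)⁻¹) * v⁻¹ =
            G.full.x (negR D (D.simple k)) (-(c s : F)⁻¹) := h2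
        rw [Full.nr, ← h1', ← h2', Full.ns, Full.nr]
        group
      rw [G.full.nr_simple_eq k.isLt, mul_inv_eq_iff_eq_mul] at e
      refine ⟨L, by simp, hL, G.full.hr (D.simple k) (((c s)⁻¹ : Fˣ) : F) *
          G.full.hr (D.simple k) ((-1 : Fˣ) : F),
        mul_mem (G.hr_mem_torI hk _) (G.hr_mem_torI hk _), ?_⟩
      rw [G.nw_cons, mul_assoc, e, Units.val_inv_eq_inv_val, Units.val_neg, Units.val_one,
        ← G.full.ns_sq k.isLt]
      simp only [mul_assoc]
      rw [← mul_assoc (G.full.ns F k), G.ns_conj_hr k (c s).ne_zero]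
      simp only [mul_assoc, v]
    · obtain ⟨L', hlen, hL', c, hc, e⟩ := ih i hL hp
      refine ⟨k :: L', by simp [hlen], fun a ha => ?_, _, G.ns_torI hk hc, ?_⟩
      · rcases List.mem_cons.1 ha with rfl | ha
        · exact hk
        · exact hL' a ha
      · rw [G.nw_cons, mul_assoc, e, G.nw_cons]
        group

theorem nw_mem_torI {I : Set (Fin D.rank)} : ∀ (n : ℕ) (L : List (Fin D.rank)), L.length = n →
    (∀ a ∈ L, a ∈ I) → G.full.nw F L ∈ D.diagonalSubgroup F → G.full.nw F L ∈ G.torI F I := by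
  intro n
  induction n using Nat.strong_induction_on with
  | _ n ih =>
    intro L hn hI hdiag
    rcases List.eq_nil_or_concat L with rfl | ⟨M, i, rfl⟩
    · simp [Full.nw]
    rw [List.concat_eq_append] at hI hdiag hn ⊢
    have hpw : G.full.pw (M ++ [i]) = 1 := by
      rw [G.full.diagonal_eq_range] at hdiag
      obtain ⟨c, hc⟩ := hdiag
      exact G.rootAct_unique (G.rootAct_nw _) (hc ▸ G.rootAct_hT c)
    have hneg : ¬ IsPos D (G.full.pw M (G.full.simp' i)).val := by
      have h := G.pos_simp i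
      rw [show G.full.simp' i = G.full.pw (M ++ [i]) (G.full.simp' i) by rw [hpw]; rfl,
        G.pw_append, Equiv.Perm.mul_apply, G.pw_singleton, G.refl_simp, G.negF_pw, G.pos_negF] at h
      exact h
    obtain ⟨L', hlen, hL', c, hc, e⟩ := G.deletion_in (F := F) M i
      (fun a ha => hI a (List.mem_append_left _ ha)) hneg
    have e' : G.full.nw F (M ++ [i]) = c * G.full.nw F L' := by
      rw [G.nw_append, show G.full.nw F [i] = G.full.ns F i by simp [Full.nw]]
      exact e
    rw [e'] at hdiag ⊢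
    have hcd : c ∈ D.diagonalSubgroup F := by
      refine (Subgroup.closure_le (D.diagonalSubgroup F)).2 ?_ hc
      rintro g ⟨j, -, u, rfl⟩
      rw [G.full.diagonal_eq_range]
      exact G.full.hr_mem (G.full.simple_lt j.isLt) u.ne_zero
    exact mul_mem hc (ih L'.length (by simp at hn; omega) L' rfl hL'
      ((Subgroup.mul_mem_cancel_left _ hcd).1 hdiag))

/-! ### Root groups -/

theorem refl_negF (i : Fin D.rank) (s : Fin D.nroots) :
    G.full.refl i (negF s) = negF (G.full.refl i s) :=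
  Fin.ext (G.full.reflT_spec i.isLt s.isLt).2.2.1

theorem ns_inv_conj_Up (i : Fin D.rank) {a : GL D.Idx F}
    (ha : a ∈ G.US F {s | IsPos D s ∧ s ≠ D.simple i}) :
    (G.full.ns F i)⁻¹ * a * G.full.ns F i ∈ G.US F {s | IsPos D s ∧ s ≠ D.simple i} := by
  obtain ⟨d, hd⟩ := G.hr_simple_mem i (neg_ne_zero.mpr (one_ne_zero (α := F)))
  rw [← G.full.ns_sq i.isLt] at hd
  rw [show (G.full.ns F i)⁻¹ * a * G.full.ns F i = (G.full.ns F i * G.full.ns F i)⁻¹ *
    (G.full.ns F i * a * (G.full.ns F i)⁻¹) * (G.full.ns F i * G.full.ns F i) by group, hd,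
    ← map_inv]
  have := G.hT_conj_US _ (fun s hs => hs.1.1) d⁻¹ (G.ns_conj_Up i ha)
  rwa [← map_inv, inv_inv] at this

theorem U_step_GL (i : Fin D.rank) {a : GL D.Idx F} (ha : a ∈ D.posUnipotent F) (t : F) :
    ∃ t', ∃ u ∈ D.posUnipotent F, a * G.full.x (D.simple i) t * G.full.ns F i =
      G.full.x (D.simple i) t' * G.full.ns F i * u := by
  obtain ⟨b, hb, t', e⟩ := G.pos_split_simple i (mul_mem ha (G.x_mem_pos (G.pos_simp i) t))
  have h := G.x_simple_conj_Up i (-t') hb
  rw [← G.full.x_inv, inv_inv] at h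
  refine ⟨t', _, G.Up_le_pos i (G.ns_inv_conj_Up i h), ?_⟩
  have e' : a * G.full.x (D.simple i) t = b * G.full.x (D.simple i) t' := e
  rw [e']
  group

theorem V_step_GL (i : Fin D.rank) {y : GL D.Idx F} (hy : y ∈ D.negUnipotent F) :
    ∃ y' ∈ D.negUnipotent F, ∃ t : F,
      G.full.ns F i * y = y' * G.full.x (D.simple i) t * G.full.ns F i := by
  obtain ⟨L0, hL0⟩ := G.exists_longest
  set n := G.full.nw F L0
  set σ := G.full.pw L0
  have hflip : ∀ s, IsPos D s.val ↔ ¬ IsPos D (σ s).val := fun s => ⟨hL0 s, fun h => by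
    by_contra hs
    have := hL0 (negF s) (G.pos_negF.mpr hs)
    rw [G.negF_pw, G.pos_negF, not_not] at this
    exact h this⟩
  have hσ : G.full.RootAct n σ := G.rootAct_nw L0
  -- the fundamental root sent to `-p_i`
  set r := σ.symm (negF (G.full.simp' i)) with hr
  have hrσ : σ r = negF (G.full.simp' i) := Equiv.apply_symm_apply _ _
  have hrpos : IsPos D r.val := (hflip r).mpr (by
    rw [hrσ, G.pos_negF, not_not]; exact G.pos_simp i)
  obtain ⟨k, hk⟩ : ∃ k, r = G.full.simp' k := by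
    obtain ⟨M, hM⟩ := G.exists_rootAct (F := F) (g := n⁻¹ * G.full.ns F i * n)
      (mul_mem (mul_mem (inv_mem (G.nw_mem_monomial L0)) (G.ns_mem_monomial i))
        (G.nw_mem_monomial L0))
    have hτ : ∀ s, σ (G.full.pw M s) = G.full.refl i (σ s) := by
      have h := G.rootAct_mul hσ hM
      rw [show n * (n⁻¹ * G.full.ns F i * n) = G.full.ns F i * n by group] at h
      exact fun s => Equiv.congr_fun (G.rootAct_unique h (G.rootAct_mul (G.rootAct_ns i) hσ)) s
    have hneg : ¬ IsPos D (G.full.pw M r).val := by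
      rw [hflip, hτ, hrσ, G.refl_negF, G.refl_simp, negF_negF,
        not_not]
      exact G.pos_simp i
    by_contra hno
    simp only [not_exists] at hno
    refine hneg ((G.pos_iff_cor (Fin.isLt _)).mpr fun j => ?_)
    rw [G.cor_linear (J := List.range D.rank) (G.pw_mem_full M)]
    refine Finset.sum_nonneg fun l _ => mul_nonneg ((G.pos_iff_cor r.isLt).mp hrpos l)
      ((G.pos_iff_cor (Fin.isLt _)).mp ?_ j)
    rw [hflip, hτ]
    intro hp
    have h1 : ¬ IsPos D (σ (G.full.simp' l)).val := (hflip _).mp (G.pos_simp l)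
    have h2 : σ (G.full.simp' l) ≠ negF (G.full.simp' i) := fun e =>
      hno l (σ.injective (hrσ.trans e.symm))
    have h3 := G.refl_pos i (s := negF (σ (G.full.simp' l))) (G.pos_negF.mpr h1)
      (fun e => h2 (by rw [← e, negF_negF]))
    rw [G.refl_negF, G.pos_negF] at h3
    exact h3.1 hp
  obtain ⟨u, hu, rfl⟩ : ∃ u ∈ D.posUnipotent F, y = n * u * n⁻¹ := by
    refine ⟨n⁻¹ * y * n, ?_, by group⟩
    rw [G.negUnipotent_eq] at hy
    rw [G.posUnipotent_eq]
    obtain ⟨M, hM⟩ := G.exists_rootAct (inv_mem (G.nw_mem_monomial (F := F) L0))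
    have hmm := G.rootAct_mul hσ hM
    rw [mul_inv_cancel] at hmm
    have hinv : ∀ s, σ (G.full.pw M s) = s := fun s =>
      Equiv.congr_fun (G.rootAct_unique hmm G.rootAct_one) s
    have := G.conj_x_act hM (S' := {r | IsPos D r}) (fun s hs => ⟨hs.1, ?_⟩) hy
    · rwa [inv_inv] at this
    · exact (hflip _).mpr (by rw [hinv]; exact fun h => hs.2 h.2)
  obtain ⟨a, ha, t, rfl⟩ := G.pos_split_simple k hu
  obtain ⟨c, hc⟩ := G.rootAct_mul (G.rootAct_ns (F := F) i) hσ
  refine ⟨G.full.ns F i * n * a * (G.full.ns F i * n)⁻¹, ?_,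
    (c (G.full.simp' k) : F) * t, ?_⟩
  · rw [G.negUnipotent_eq]
    refine G.conj_x_act (G.rootAct_mul (G.rootAct_ns i) hσ)
      (S' := {r | r < D.nroots ∧ ¬ D.nroots ≤ 2 * r}) (fun s hs => ⟨hs.1.1, Fin.isLt _,
      fun h => ?_⟩) ha
    have h' : IsPos D (G.full.refl i (σ ⟨s, hs.1.1⟩)).val := ⟨Fin.isLt _, h⟩
    have h1 : ¬ IsPos D (σ ⟨s, hs.1.1⟩).val := (hflip ⟨s, hs.1.1⟩).mp hs.1
    have h2 : σ ⟨s, hs.1.1⟩ ≠ negF (G.full.simp' i) := fun e => hs.2 (by
      have := σ.injective (e.trans hrσ.symm)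
      rw [hk] at this
      exact congrArg Fin.val this)
    have h3 := G.refl_pos i (s := negF (σ ⟨s, hs.1.1⟩)) (G.pos_negF.mpr h1)
      (fun e => h2 (by rw [← e, negF_negF]))
    rw [G.refl_negF, G.pos_negF] at h3
    exact h3.1 h'
  · have e := (hc (G.full.simp' k)).2.2.2 t
    rw [Equiv.Perm.mul_apply, ← hk, hrσ, G.refl_negF,
      G.refl_simp, negF_negF, hk] at e
    have e' : G.full.ns F i * n * G.full.x (D.simple k) t * (G.full.ns F i * n)⁻¹ =
      G.full.x (D.simple i) ((c (G.full.simp' k) : F) * t) := e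
    rw [← e']
    group

theorem X_V_GL (i : Fin D.rank) {v : F} (hv : v ≠ 0) :
    G.full.x (D.simple i) v * G.full.ns F i =
      G.full.x (negR D (D.simple i)) v⁻¹ * G.full.x (D.simple i) (-v) *
        G.full.hr (D.simple i) (-v) := by
  rw [G.x_neg_decomp (D.simple i) (inv_ne_zero hv), inv_inv, G.full.nr_simple_eq i.isLt,
    mul_assoc (G.full.x (D.simple i) v * _) (G.full.x (D.simple i) v), G.full.x_add,
    add_neg_cancel, G.full.x_zero, mul_one, mul_assoc, mul_assoc (G.full.hr _ _),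
    G.ns_conj_hr i (neg_ne_zero.mpr hv), ← mul_assoc (G.full.hr _ _),
    G.full.hr_simple_mul i.isLt (neg_ne_zero.mpr hv) (inv_ne_zero (neg_ne_zero.mpr hv)),
    mul_inv_cancel₀ (neg_ne_zero.mpr hv), G.full.hr_simple_one i.isLt, one_mul]

/-! ### The data -/

/-- The node of a simple reflection. -/
noncomputable def idx (s : (G.bnPair F).S) : Fin D.rank :=
  (Equiv.ofBijective (G.sref F) G.sref_bijective).symm s

theorem idx_sref (i : Fin D.rank) : G.idx (G.sref F i) = i :=
  (Equiv.ofBijective (G.sref F) G.sref_bijective).symm_apply_apply i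

theorem mem_BN {g : D.group F} :
    g ∈ (G.bnPair F).B ⊓ (G.bnPair F).N ↔ ∃ c, (g : GL D.Idx F) = T.hT F c := by
  have : g ∈ (G.bnPair F).B ⊓ (G.bnPair F).N ↔
      (g : GL D.Idx F) ∈ D.borelSubgroup F ⊓ D.monomialSubgroup F := Iff.rfl
  rw [this, G.borel_inf_monomial, G.full.diagonal_eq_range]
  exact ⟨fun ⟨c, h⟩ => ⟨c, h.symm⟩, fun ⟨c, h⟩ => ⟨c, h.symm⟩⟩

/-- The coordinates of the torus. -/
def coordT (F : Type*) [Field F] : ((G.bnPair F).S → Fˣ) →* D.group F where
  toFun f := ⟨T.hT F fun j => f (G.sref F j), G.monomial_le_group (G.hT_mem_monomial _)⟩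
  map_one' := Subtype.ext (map_one (T.hT F))
  map_mul' a b := Subtype.ext (map_mul (T.hT F) (fun j => a (G.sref F j)) fun j => b (G.sref F j))

theorem coe_coordT_sgl (i : Fin D.rank) (l : Fˣ) :
    ((((G.coordT F).comp (sgl Fˣ (G.sref F i))) l : D.group F) : GL D.Idx F) =
      G.full.hr (D.simple i) (l : F) := by
  rw [← G.full.hT_single]
  refine congrArg (T.hT F) (funext fun j => ?_)
  by_cases h : j = i
  · subst h; simp [sgl]
  · simp [sgl, h, G.sref_bijective.injective.ne h]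

theorem mem_root {i : Fin D.rank} {x : D.group F} :
    x ∈ (G.US F {D.simple i}).subgroupOf (D.group F) ↔
      ∃ t, (x : GL D.Idx F) = G.full.x (D.simple i) t := by
  rw [Subgroup.mem_subgroupOf]
  exact ⟨G.mem_X, fun ⟨t, e⟩ => e ▸ G.x_mem_US (Set.mem_singleton _) t⟩

theorem card_root [Finite F] (i : Fin D.rank) :
    Nat.card ((G.US F {D.simple i}).subgroupOf (D.group F)) = Nat.card F := by
  have h : T.Closed {D.simple i} := by
    have := G.closed_flip [i]
    rwa [G.pw_singleton, G.flip_refl] at this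
  rw [Nat.card_congr (Subgroup.subgroupOfEquivOfLe (G.US_le_group _)).toEquiv, G.card_US h,
    Nat.card_coe_set_eq, Set.ncard_singleton, pow_one]

theorem mem_rootX {s : (G.bnPair F).S} {x : D.group F}
    (hx : x ∈ (G.US F {D.simple (G.idx s)}).subgroupOf (D.group F)) :
    ∃ i, s = G.sref F i ∧ ∃ t, (x : GL D.Idx F) = G.full.x (D.simple i) t := by
  obtain ⟨i, rfl⟩ := G.exists_index s
  rw [G.idx_sref] at hx
  exact ⟨i, rfl, G.mem_root.mp hx⟩

/-- The split data. -/
noncomputable def splitData [Finite F] (hinj : Function.Injective (T.hT F)) (p : ℕ) [Fact p.Prime]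
    [CharP F p] : SplitData (G.bnPair F) p Fˣ where
  U := (D.posUnipotent F).subgroupOf (D.group F)
  V := (D.negUnipotent F).subgroupOf (D.group F)
  coord := G.coordT F
  coord_inj a b h := funext fun s => by
    obtain ⟨i, rfl⟩ := G.exists_index s
    exact congrFun (hinj (congrArg Subtype.val h)) i
  coord_range := by
    ext g
    rw [G.mem_BN]
    refine ⟨fun ⟨f, hf⟩ => ⟨_, by rw [← hf]; rfl⟩, fun ⟨c, hc⟩ => ⟨fun s => c (G.idx s), Subtype.ext ?_⟩⟩
    rw [hc]
    exact congrArg (T.hT F) (funext fun j => congrArg c (G.idx_sref j))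
  pU := (G.isPGroup_pos p).comap_subtype
  pV := by
    obtain ⟨n, -, hn⟩ := G.conj_pos_eq_neg (F := F)
    rw [← hn]
    exact ((G.isPGroup_pos p).map _).comap_subtype
  U_le b hb := Subgroup.mem_sup_left (T := D.diagonalSubgroup F) hb
  B_eq b hb := by
    obtain ⟨u, hu, c, e⟩ := G.mem_borel.mp (G.mem_borel_subgroupOf.mp hb)
    refine ⟨⟨_, G.monomial_le_group (G.hT_mem_monomial c)⟩, G.mem_BN.mpr ⟨c, rfl⟩,
      ⟨(T.hT F c)⁻¹ * u * T.hT F c, mul_mem (mul_mem (inv_mem (G.monomial_le_group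
        (G.hT_mem_monomial c))) (by rw [G.posUnipotent_eq] at hu; exact G.US_le_group _ hu))
        (G.monomial_le_group (G.hT_mem_monomial c))⟩, ?_, Subtype.ext ?_⟩
    · rw [Subgroup.mem_subgroupOf]
      show (T.hT F c)⁻¹ * u * T.hT F c ∈ D.posUnipotent F
      rw [G.posUnipotent_eq] at hu ⊢
      have := G.hT_conj_US _ (fun s hs => hs.1) c⁻¹ hu
      rwa [map_inv, inv_inv] at this
    · rw [Subgroup.coe_mul, e]; group
  T_U t ht u hu := by
    obtain ⟨c, hc⟩ := G.mem_BN.mp ht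
    rw [Subgroup.mem_subgroupOf, G.posUnipotent_eq] at hu ⊢
    rw [Subgroup.coe_mul, Subgroup.coe_mul, Subgroup.coe_inv, hc]
    exact G.hT_conj_US _ (fun s hs => hs.1) c hu
  T_V t ht u hu := by
    obtain ⟨c, hc⟩ := G.mem_BN.mp ht
    rw [Subgroup.mem_subgroupOf, G.negUnipotent_eq] at hu ⊢
    rw [Subgroup.coe_mul, Subgroup.coe_mul, Subgroup.coe_inv, hc]
    exact G.hT_conj_US _ (fun s hs => hs.1) c hu
  V_conj := by
    obtain ⟨n, hn, h⟩ := G.conj_pos_eq_neg (F := F)
    refine ⟨⟨n, G.monomial_le_group hn⟩, fun y hy => ?_⟩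
    rw [Subgroup.mem_subgroupOf, ← h] at hy
    obtain ⟨u, hu, e⟩ := hy
    rw [Subgroup.mem_subgroupOf, Subgroup.coe_mul, Subgroup.coe_mul, Subgroup.coe_inv, ← e]
    simpa [mul_assoc] using hu
  X s := (G.US F {D.simple (G.idx s)}).subgroupOf (D.group F)
  X_le s x hx := by
    rw [Subgroup.mem_subgroupOf, G.posUnipotent_eq] at *
    exact G.US_mono (fun r hr => by rw [Set.mem_singleton_iff.mp hr]; exact G.pos_simp _) hx
  X_dvd s := by
    haveI := Fintype.ofFinite F
    rw [G.card_root, Nat.card_eq_fintype_card]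
    obtain ⟨n, -, hn⟩ := FiniteField.card F p
    rw [hn]
    exact dvd_pow_self p n.ne_zero
  T_X s t ht x hx := by
    obtain ⟨c, hc⟩ := G.mem_BN.mp ht
    rw [Subgroup.mem_subgroupOf] at hx ⊢
    rw [Subgroup.coe_mul, Subgroup.coe_mul, Subgroup.coe_inv, hc]
    exact G.hT_conj_US _ (fun r hr => by
      rw [Set.mem_singleton_iff.mp hr]; exact G.full.simple_lt (Fin.isLt _)) c hx
  X_inj s x hx hB := by
    obtain ⟨i, rfl, t, ht⟩ := G.mem_rootX hx
    refine Subtype.ext ?_
    have hB' : (G.full.ns F i)⁻¹ * G.full.x (D.simple i) t * G.full.ns F i ∈ D.borelSubgroup F := by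
      rw [← ht]; exact hB
    obtain ⟨d, hd⟩ := G.hr_simple_mem i (neg_ne_zero.mpr (one_ne_zero (α := F)))
    rw [← G.full.ns_sq i.isLt] at hd
    have hB2 := mul_mem (mul_mem (G.borel_hT (F := F) d) hB') (inv_mem (G.borel_hT d))
    rw [← hd, show G.full.ns F i * G.full.ns F i *
      ((G.full.ns F i)⁻¹ * G.full.x (D.simple i) t * G.full.ns F i) *
      (G.full.ns F i * G.full.ns F i)⁻¹ =
      G.full.ns F i * G.full.x (D.simple i) t * (G.full.ns F i)⁻¹ by group,
      G.full.ns_conj i.isLt (G.full.simple_lt i.isLt), G.full.simple_reflect i.isLt,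
      (G.full.node_spec i.isLt).2.2.2.1] at hB2
    have hneg := G.x_mem_neg (F := F) (Cert.negR_lt (G.full.simple_lt i.isLt))
      (fun hh => (G.negR_pos (G.pos_simp i)) hh.2) (((-1 : ℤ) : F) * t)
    have h1 : G.full.x (negR D (D.simple i)) (((-1 : ℤ) : F) * t) ∈
        D.borelSubgroup F ⊓ D.negUnipotent F := Subgroup.mem_inf.mpr ⟨hB2, hneg⟩
    rw [G.borel_inf_neg, Subgroup.mem_bot] at h1
    have h0 := G.x_eq_one (Cert.negR_lt (G.full.simple_lt i.isLt)) h1
    have : t = 0 := by simpa using h0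
    rw [ht, this, G.full.x_zero]
    rfl
  U_step s a ha x hx := by
    obtain ⟨i, rfl, t, ht⟩ := G.mem_rootX hx
    rw [G.idx_sref]
    obtain ⟨t', u, hu, e⟩ := G.U_step_GL i ha t
    refine ⟨⟨_, G.x_mem_group (D.simple i) t'⟩, G.mem_root.mpr ⟨t', rfl⟩,
      ⟨u, by rw [G.posUnipotent_eq] at hu; exact G.US_le_group _ hu⟩, hu, Subtype.ext ?_⟩
    show (a : GL D.Idx F) * x * G.full.ns F i = _
    rw [ht]
    exact e
  V_step s y hy := by
    obtain ⟨i, rfl⟩ := G.exists_index s
    rw [G.idx_sref]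
    obtain ⟨y', hy', t, e⟩ := G.V_step_GL i hy
    refine ⟨⟨y', by rw [G.negUnipotent_eq] at hy'; exact G.US_le_group _ hy'⟩, hy',
      ⟨_, G.x_mem_group (D.simple i) t⟩, G.mem_root.mpr ⟨t, rfl⟩, 1, one_mem _, Subtype.ext ?_⟩
    rw [mul_one]
    exact e
  X_V s x hx hne := by
    obtain ⟨i, rfl, v, hv⟩ := G.mem_rootX hx
    have hv0 : v ≠ 0 := fun h => hne (Subtype.ext (by rw [hv, h, G.full.x_zero]; rfl))
    obtain ⟨c, hc⟩ := G.hr_simple_mem i (neg_ne_zero.mpr hv0)
    have hh : G.full.hr (D.simple i) (-v) ∈ D.group F := by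
      rw [hc]; exact G.monomial_le_group (G.hT_mem_monomial c)
    refine ⟨⟨_, G.x_mem_group (negR D (D.simple i)) v⁻¹⟩, G.x_mem_neg
      (Cert.negR_lt (G.full.simple_lt i.isLt)) (fun hh => (G.negR_pos (G.pos_simp i)) hh.2) _,
      ⟨_, hh⟩, G.mem_BN.mpr ⟨c, hc⟩,
      (⟨_, hh⟩ : D.group F)⁻¹ * ⟨_, G.x_mem_group (D.simple i) (-v)⟩ * ⟨_, hh⟩, ?_, Subtype.ext ?_⟩
    · rw [Subgroup.mem_subgroupOf]
      show (G.full.hr (D.simple i) (-v))⁻¹ * G.full.x (D.simple i) (-v) *
        G.full.hr (D.simple i) (-v) ∈ D.posUnipotent F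
      rw [G.posUnipotent_eq, hc]
      have := G.hT_conj_US (F := F) {r | IsPos D r} (fun s hs => hs.1) c⁻¹
        (G.x_mem_US (G.pos_simp i) (-v))
      rwa [map_inv, inv_inv] at this
    · show (x : GL D.Idx F) * G.full.ns F i = G.full.x (negR D (D.simple i)) v⁻¹ *
        G.full.hr (D.simple i) (-v) * ((G.full.hr (D.simple i) (-v))⁻¹ *
          G.full.x (D.simple i) (-v) * G.full.hr (D.simple i) (-v))
      rw [hv, G.X_V_GL i hv0]
      group
  generated := by
    set W := (D.negUnipotent F).subgroupOf (D.group F) ⊔ ((G.bnPair F).B ⊓ (G.bnPair F).N) ⊔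
      Subgroup.closure (G.bnPair F).S
    have hN : (G.bnPair F).N ≤ W := by
      rw [← (G.bnPair F).closure_sup]
      exact sup_le le_sup_right (le_trans le_sup_right le_sup_left)
    obtain ⟨n, hn, h⟩ := G.conj_pos_eq_neg (F := F)
    rw [eq_top_iff, ← (G.bnPair F).sup_eq_top]
    refine sup_le (fun b hb => ?_) hN
    obtain ⟨u, hu, c, e⟩ := G.mem_borel.mp (G.mem_borel_subgroupOf.mp hb)
    have hug : u ∈ D.group F := by rw [G.posUnipotent_eq] at hu; exact G.US_le_group _ hu
    have h1 : (⟨n, G.monomial_le_group hn⟩ * ⟨u, hug⟩ * ⟨n, G.monomial_le_group hn⟩⁻¹ : D.group F) ∈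
        W := by
      refine Subgroup.mem_sup_left (Subgroup.mem_sup_left ?_)
      rw [Subgroup.mem_subgroupOf, ← h]
      exact ⟨u, hu, rfl⟩
    have hnW : (⟨n, G.monomial_le_group hn⟩ : D.group F) ∈ W := hN hn
    have hu' : (⟨u, hug⟩ : D.group F) ∈ W := by
      have := mul_mem (mul_mem (inv_mem hnW) h1) hnW
      rwa [show ∀ a b : D.group F, a⁻¹ * (a * b * a⁻¹) * a = b from fun a b => by group] at this
    rw [show b = ⟨u, hug⟩ * ⟨_, G.monomial_le_group (G.hT_mem_monomial c)⟩ from Subtype.ext e]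
    exact mul_mem hu' (hN (G.hT_mem_monomial c))
  s_T s t ht := by
    obtain ⟨i, rfl⟩ := G.exists_index s
    obtain ⟨c, hc⟩ := G.mem_BN.mp ht
    obtain ⟨l, hl⟩ := G.ns_hT_exists (F := F) i c
    refine ⟨l, Subtype.ext ?_⟩
    show (G.full.ns F i)⁻¹ * (t : GL D.Idx F) * G.full.ns F i = (t : GL D.Idx F) * _
    rw [G.coe_coordT_sgl, hc, hl]
  s_cor s l := by
    obtain ⟨i, rfl⟩ := G.exists_index s
    refine Subtype.ext ?_
    show (G.full.ns F i)⁻¹ * _ * G.full.ns F i = _
    rw [G.coe_coordT_sgl, G.coe_coordT_sgl, Units.val_inv_eq_inv_val, mul_assoc,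
      inv_mul_eq_iff_eq_mul, G.ns_conj_hr i (inv_ne_zero l.ne_zero), inv_inv]
  opp s := by
    obtain ⟨i, rfl⟩ := G.exists_index s
    rw [G.idx_sref]
    let f : Fˣ → {x // x ∈ (G.US F {D.simple i}).subgroupOf (D.group F) ∧ x ≠ 1} := fun l =>
      ⟨⟨_, G.x_mem_group (D.simple i) (-(l : F))⟩, G.mem_root.mpr ⟨_, rfl⟩, fun h => l.ne_zero
        (neg_eq_zero.mp (G.x_eq_one (G.full.simple_lt i.isLt) (congrArg Subtype.val h)))⟩
    have hf : Function.Bijective f := by
      constructor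
      · intro a b h
        have h1 : G.full.x (D.simple i) (-(a : F)) = G.full.x (D.simple i) (-(b : F)) :=
          congrArg (fun z => ((z.1 : D.group F) : GL D.Idx F)) h
        have h2 : G.full.x (D.simple i) (-(a : F) + (b : F)) = 1 := by
          rw [← G.full.x_add, h1, G.full.x_add, neg_add_cancel, G.full.x_zero]
        have := G.x_eq_one (G.full.simple_lt i.isLt) h2
        exact Units.ext (neg_add_eq_zero.mp this)
      · rintro ⟨x, hx, hne⟩
        obtain ⟨t, ht⟩ := G.mem_root.mp hx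
        have ht0 : t ≠ 0 := fun h => hne (Subtype.ext (by rw [ht, h, G.full.x_zero]; rfl))
        exact ⟨Units.mk0 (-t) (neg_ne_zero.mpr ht0), Subtype.ext (Subtype.ext (by simp [f, ht]))⟩
    refine ⟨(Equiv.ofBijective f hf).symm, fun x => ?_⟩
    obtain ⟨l, rfl⟩ := (Equiv.ofBijective f hf).surjective x
    rw [Equiv.symm_apply_apply]
    have hq : (-(l : F)) ≠ 0 := neg_ne_zero.mpr l.ne_zero
    refine ⟨⟨_, G.x_mem_group (D.simple i) (-(-(l : F))⁻¹)⟩, G.mem_root.mpr ⟨_, rfl⟩,
      ⟨_, G.x_mem_group (D.simple i) (-(-(l : F))⁻¹)⟩, G.mem_root.mpr ⟨_, rfl⟩, Subtype.ext ?_⟩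
    show G.full.ns F i * G.full.x (D.simple i) (-(l : F)) * G.full.ns F i =
      G.full.x (D.simple i) (-(-(l : F))⁻¹) * G.full.ns F i * _ *
        G.full.x (D.simple i) (-(-(l : F))⁻¹)
    rw [G.coe_coordT_sgl]
    have h := (G.rankOne F i).opp (-(l : F)) hq
    change G.full.ns F i * G.full.x (D.simple i) (-(l : F)) * G.full.ns F i =
      G.full.x (D.simple i) (-(-(l : F))⁻¹) * G.full.hr (D.simple i) (-(-(l : F))⁻¹) *
        G.full.ns F i * G.full.x (D.simple i) (-(-(l : F))⁻¹) at h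
    rw [h, mul_assoc (G.full.x (D.simple i) _) (G.full.hr _ _), mul_assoc (G.full.x (D.simple i) _)
      (G.full.ns F i), G.ns_conj_hr i l.ne_zero]
    simp [inv_neg]
  coh L := by
    intro g hg
    obtain ⟨hgH, hgB⟩ := Subgroup.mem_inf.mp hg
    set I : Set (Fin D.rank) := {j | G.sref F j ∈ L}
    set C := Subgroup.closure (⋃ s ∈ L, Set.range ((G.coordT F).comp (sgl Fˣ s))) with hC
    have hmap : C.map (D.group F).subtype = G.torI F I := by
      rw [hC, MonoidHom.map_closure, torI]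
      congr 1
      ext x
      constructor
      · rintro ⟨y, hy, rfl⟩
        obtain ⟨s, hs, l, rfl⟩ := Set.mem_iUnion₂.1 hy
        obtain ⟨i, rfl⟩ := G.exists_index s
        exact ⟨i, hs, l, G.coe_coordT_sgl i l⟩
      · rintro ⟨j, hj, u, rfl⟩
        exact ⟨_, Set.mem_iUnion₂.2 ⟨_, hj, u, rfl⟩, G.coe_coordT_sgl j u⟩
    suffices h : (g : GL D.Idx F) ∈ G.torI F I by
      rw [← hmap] at h
      obtain ⟨y, hy, e⟩ := h
      exact (Subtype.ext e : y = g) ▸ hy
    obtain ⟨c, hc, M, hM, e⟩ : ∃ c ∈ G.torI F I, ∃ M : List (Fin D.rank), (∀ a ∈ M, a ∈ I) ∧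
        (g : GL D.Idx F) = c * G.full.nw F M := by
      clear hgB hg
      induction hgH using Subgroup.closure_induction'' with
      | one => exact ⟨1, one_mem _, [], by simp, by simp [Full.nw]⟩
      | mem x hx =>
        rcases hx with ⟨s, hs, rfl⟩ | hx
        · obtain ⟨i, rfl⟩ := G.exists_index s
          exact ⟨1, one_mem _, [i], fun a ha => (List.mem_singleton.1 ha).symm ▸ hs, by simp [Full.nw, sref]⟩
        · obtain ⟨s, hs, l, rfl⟩ := Set.mem_iUnion₂.1 hx
          obtain ⟨i, rfl⟩ := G.exists_index s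
          exact ⟨_, G.hr_mem_torI hs l, [], by simp, by simpa [Full.nw] using G.coe_coordT_sgl i l⟩
      | inv_mem x hx =>
        rcases hx with ⟨s, hs, rfl⟩ | hx
        · obtain ⟨i, rfl⟩ := G.exists_index s
          refine ⟨_, inv_mem (G.hr_mem_torI hs (-1)), [i], fun a ha => (List.mem_singleton.1 ha).symm ▸ hs, ?_⟩
          rw [Units.val_neg, Units.val_one, ← G.full.ns_sq i.isLt]
          simp [Full.nw, sref, mul_assoc]
        · obtain ⟨s, hs, l, rfl⟩ := Set.mem_iUnion₂.1 hx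
          obtain ⟨i, rfl⟩ := G.exists_index s
          refine ⟨_, inv_mem (G.hr_mem_torI hs l), [], by simp, ?_⟩
          rw [Subgroup.coe_inv, G.coe_coordT_sgl]
          simp [Full.nw]
      | mul a b _ _ ha hb =>
        obtain ⟨c, hc, M, hM, e⟩ := ha
        obtain ⟨c', hc', M', hM', e'⟩ := hb
        obtain ⟨d, hd, ed⟩ := G.nw_torI hM hc'
        refine ⟨c * d, mul_mem hc hd, M ++ M', fun x hx => ?_, ?_⟩
        · rcases List.mem_append.1 hx with h | h
          · exact hM x h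
          · exact hM' x h
        · rw [Subgroup.coe_mul, e, e', G.nw_append, mul_assoc, ← mul_assoc (G.full.nw F M), ed]
          simp only [mul_assoc]
    have hcd : c ∈ D.diagonalSubgroup F := by
      refine (Subgroup.closure_le (D.diagonalSubgroup F)).2 ?_ hc
      rintro x ⟨j, -, u, rfl⟩
      rw [G.full.diagonal_eq_range]
      exact G.full.hr_mem (G.full.simple_lt j.isLt) u.ne_zero
    have hgd : (g : GL D.Idx F) ∈ D.diagonalSubgroup F := by
      rw [← G.borel_inf_monomial]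
      refine Subgroup.mem_inf.mpr ⟨G.mem_borel_subgroupOf.mp hgB, ?_⟩
      rw [e]
      exact mul_mem (Subgroup.mem_sup_left hcd) (G.nw_mem_monomial M)
    rw [e] at hgd ⊢
    exact mul_mem hc (G.nw_mem_torI _ M rfl hM ((Subgroup.mul_mem_cancel_left _ hcd).1 hgd))

/-- Classes of elements of order prime to `p`. -/
theorem card_regClass [Finite F] (hinj : Function.Injective (T.hT F)) (p : ℕ) [Fact p.Prime]
    [CharP F p] : Nat.card (RegClass (D.group F) p) = Nat.card F ^ D.rank := by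
  haveI : Fintype F := Fintype.ofFinite F
  haveI : Fintype Fˣ := Fintype.ofFinite _
  haveI : Finite (D.group F) := inferInstance
  have h1 : Nat.card Fˣ + 1 = Nat.card F := by
    rw [Nat.card_units, Nat.sub_add_cancel (Nat.card_pos (α := F))]
  have h2 : p ∣ Nat.card Fˣ + 1 := by
    obtain ⟨n, -, hn⟩ := FiniteField.card F p
    rw [h1, Nat.card_eq_fintype_card, hn]
    exact dvd_pow_self p n.ne_zero
  rw [CRWeights.card_regClass (G.splitData hinj p) G.hasLongest h2, h1,
    ← Nat.card_congr (Equiv.ofBijective (G.sref F) G.sref_bijective),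
    Nat.card_eq_fintype_card (α := Fin D.rank), Fintype.card_fin]

end Good

end Tab

end CfsgLib.Chev
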