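import Cfsg.Agent.CRWeights.ChevData
import Cfsg.Agent.Chev.SteinbergTorus

/-!
# The torus map of type E₆ when `3` does not divide `q - 1`
-/

set_option autoImplicit false

namespace CfsgLib.Chev

open Cfsg.Lie

namespace Tab

variable {D : ChevalleyDatum}

/-- The Cartan matrix has an inverse with denominator `n`. -/
def chkDen (T : Tab D) (n : ℕ) (M : List (List ℤ)) : Bool :=
  allBelow (fun i => allBelow (fun k => decide
    (((List.range D.rank).map fun j => (M.getD i []).getD j 0 * T.cart k (D.simple j)).sum =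
      if i = k then (n : ℤ) else 0)) D.rank) D.rank

theorem Good.hT_injective_den {T : Tab D} (G : T.Good) {F : Type*} [Field F] [Finite F] {n : ℕ}
    {M : List (List ℤ)} (hM : T.chkDen n M = true) (hn : n.Coprime (Nat.card Fˣ)) :
    Function.Injective (T.hT F) := by
  refine (injective_iff_map_eq_one _).mpr fun c hc => funext fun i => ?_
  rw [G.full.hT_eq_one_iff] at hc
  simp only [chkDen, allBelow_iff, decide_eq_true_eq] at hM
  have e : c i ^ (n : ℤ) = 1 := by
    calc c i ^ (n : ℤ)
        = ∏ m : Fin D.rank, c m ^ (if i.val = m.val then (n : ℤ) else 0) := by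
          rw [Finset.prod_eq_single i (fun m _ hm => by
            rw [if_neg fun h => hm (Fin.ext h.symm), _root_.zpow_zero])
            (fun h => absurd (Finset.mem_univ i) h), if_pos rfl]
      _ = ∏ m : Fin D.rank, ∏ j : Fin D.rank,
            (c m ^ T.cart m (D.simple j)) ^ ((M.getD i []).getD j 0) :=
          Finset.prod_congr rfl fun m _ => by
            rw [← hM i i.isLt m m.isLt, list_sum_range, zpow_sum_eq_prod]
            exact Finset.prod_congr rfl fun j _ => by rw [← _root_.zpow_mul, mul_comm]
      _ = ∏ j : Fin D.rank, T.chi (F := F) (D.simple j) c ^ ((M.getD i []).getD j 0) := by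
          rw [Finset.prod_comm]
          exact Finset.prod_congr rfl fun j _ => by rw [Finset.prod_zpow]; rfl
      _ = 1 := Finset.prod_eq_one fun j _ => by rw [hc j j.isLt, _root_.one_zpow]
  rw [_root_.zpow_natCast] at e
  rw [Pi.one_apply, ← orderOf_eq_one_iff]
  exact Nat.eq_one_of_dvd_coprimes hn (orderOf_dvd_of_pow_eq_one e) (orderOf_dvd_natCard _)

end Tab

theorem den_E6 : E6Data.tab.chkDen 3 [[4, 3, 5, 6, 4, 2], [3, 6, 6, 9, 6, 3],
    [5, 6, 10, 12, 8, 4], [6, 9, 12, 18, 12, 6], [4, 6, 8, 12, 10, 5], [2, 3, 4, 6, 5, 4]] = true := by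
  decide +kernel

end CfsgLib.Chev
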