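import Cfsg.Agent.CRWeights.Unique

/-!
# The monomial representation and existence of weights
-/

set_option autoImplicit false
set_option linter.style.haveILetI false
set_option linter.unusedSectionVars false

namespace CfsgLib.CRWeights

open CfsgLib.BN CfsgLib.StCh

attribute [local instance] torus_normal

namespace SplitData

variable {G : Type*} [Group G] [Finite G] {k : Type*} [Field k]
variable {P : Cfsg.BNPair G} {p : ℕ} [Fact p.Prime] [CharP k p]

theorem eq_one_of_pgroup {H : Subgroup G} (χ : P.B →* kˣ) (hH : IsPGroup p H) {b : P.B}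
    (hb : (b : G) ∈ H) : χ b = 1 := by
  obtain ⟨n, hn⟩ := hH ⟨b, hb⟩
  have hb' : b ^ p ^ n = 1 := Subtype.ext (by simpa using congrArg Subtype.val hn)
  have h1 : χ b ^ p ^ n = 1 := by rw [← map_pow, hb', map_one]
  have h2 : ((χ b : k)) ^ p ^ n = 1 := by rw [← Units.val_pow_eq_pow_val, h1]; rfl
  exact Units.ext (iterateFrobenius_inj k p n (by simpa [iterateFrobenius_def] using h2))

variable {Λ : Type*} [CommGroup Λ] [Fintype Λ] (D : SplitData P p Λ)

/-- The monomial representation space. -/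
def indSp (χ : P.B →* kˣ) : Submodule k (G → k) where
  carrier := {F | ∀ (g : G) (b : P.B), F (g * b) = ((χ b)⁻¹ : kˣ) * F g}
  zero_mem' g b := by simp
  add_mem' {a b} ha hb g c := by simp [ha g c, hb g c, mul_add]
  smul_mem' r F hF g b := by simp [hF g b, mul_left_comm]

/-- The monomial representation. -/
noncomputable def indRep (χ : P.B →* kˣ) : Representation k G (indSp χ) where
  toFun g :=
    { toFun := fun F => ⟨fun x => (F : G → k) (g⁻¹ * x), fun x b => by
        show (F : G → k) (g⁻¹ * (x * b)) = _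
        rw [← mul_assoc]; exact F.2 _ b⟩
      map_add' := fun _ _ => rfl
      map_smul' := fun _ _ => rfl }
  map_one' := LinearMap.ext fun F => Subtype.ext (funext fun x => by simp)
  map_mul' g h := LinearMap.ext fun F => Subtype.ext (funext fun x => by simp [mul_assoc])

theorem indRep_apply (χ : P.B →* kˣ) (g : G) (F : indSp χ) (x : G) :
    (indRep χ g F : G → k) x = (F : G → k) (g⁻¹ * x) := rfl

theorem indSp_mul {χ : P.B →* kˣ} (F : indSp χ) {g b : G} (hb : b ∈ P.B) :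
    (F : G → k) (g * b) = (((χ ⟨b, hb⟩)⁻¹ : kˣ) : k) * (F : G → k) g := F.2 g ⟨b, hb⟩

include D in
theorem cosetOf_eq {n : G} (hn : n ∈ P.N) {g : G} (hg : g ∈ cosetOf P n) :
    ∃ u ∈ D.U, ∃ b ∈ P.B, g = u * n * b := by
  obtain ⟨b, hb, c, hc, rfl⟩ := (mem_cosetOf P).1 hg
  obtain ⟨t, ht, u, hu, rfl⟩ := D.B_eq b hb
  refine ⟨t * u * t⁻¹, D.T_U t ht u hu, n⁻¹ * t * n * c,
    mul_mem (D.n_conj_mem hn ht).1 hc, by group⟩

/-- The function supported on `U n B`. -/
noncomputable def phi (χ : P.B →* kˣ) (n : P.N) : indSp χ :=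
  haveI := Classical.propDecidable
  ⟨fun g => if h : ∃ b : P.B, ∃ u ∈ D.U, g = u * n * b then (((χ h.choose)⁻¹ : kˣ) : k) else 0, by
    intro g b
    have key : ∀ (x : G) (b : P.B) (u : G), u ∈ D.U → x = u * n * b →
        (if h : ∃ b : P.B, ∃ u ∈ D.U, x = u * n * b then (((χ h.choose)⁻¹ : kˣ) : k) else 0) =
          (((χ b)⁻¹ : kˣ) : k) := by
      intro x b u hu e
      have h : ∃ b : P.B, ∃ u ∈ D.U, x = u * n * b := ⟨b, u, hu, e⟩
      rw [dif_pos h]
      obtain ⟨u', hu', e'⟩ := h.choose_spec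
      set b' := h.choose
      have e2 : ((b' * b⁻¹ : P.B) : G) = (n : G)⁻¹ * (u'⁻¹ * u) * n := by
        rw [Subgroup.coe_mul, Subgroup.coe_inv]
        have : (b' : G) = (n : G)⁻¹ * u'⁻¹ * (u * n * b) := by rw [← e, e']; group
        rw [this]; group
      have h1 : χ (b' * b⁻¹) = 1 := eq_one_of_pgroup χ
        (D.pU.map (MulAut.conj ((n : G)⁻¹)).toMonoidHom)
        ⟨u'⁻¹ * u, mul_mem (inv_mem hu') hu, by rw [e2]; simp⟩
      rw [map_mul, map_inv] at h1
      rw [mul_inv_eq_one.1 h1]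
    by_cases h : ∃ b : P.B, ∃ u ∈ D.U, g = u * n * b
    · obtain ⟨b₀, u, hu, e⟩ := h
      show dite _ _ _ = _ * dite _ _ _
      rw [key g b₀ u hu e, key (g * b) (b₀ * b) u hu (by rw [e, Subgroup.coe_mul]; group),
        map_mul, mul_inv_rev, Units.val_mul]
    · show dite _ _ _ = _ * dite _ _ _
      rw [dif_neg h, dif_neg, mul_zero]
      rintro ⟨b', u, hu, e⟩
      exact h ⟨b' * b⁻¹, u, hu, by rw [Subgroup.coe_mul, Subgroup.coe_inv, ← mul_assoc, ← e]; group⟩⟩

variable (χ : P.B →* kˣ)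

theorem phi_supp (n : P.N) {g : G} (h : (D.phi χ n : G → k) g ≠ 0) : g ∈ cosetOf P (n : G) := by
  classical
  simp only [phi] at h
  split at h
  · rename_i h'
    obtain ⟨b, u, hu, e⟩ := h'
    exact (mem_cosetOf P).2 ⟨u, D.U_le hu, b, b.2, e⟩
  · exact absurd rfl h

theorem phi_self (n : P.N) : (D.phi χ n : G → k) n = 1 := by
  classical
  have h : ∃ b : P.B, ∃ u ∈ D.U, (n : G) = u * n * b := ⟨1, 1, one_mem _, by simp⟩
  simp only [phi, dif_pos h]
  obtain ⟨u, hu, e⟩ := h.choose_spec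
  have h1 : χ h.choose = 1 := by
    refine eq_one_of_pgroup χ (D.pU.map (MulAut.conj ((n : G)⁻¹)).toMonoidHom)
      ⟨u⁻¹, inv_mem hu, ?_⟩
    have : (h.choose : G) = (n : G)⁻¹ * u⁻¹ * n := by
      rw [show (h.choose : G) = (n : G)⁻¹ * u⁻¹ * (u * n * h.choose) by group, ← e]
    rw [this]; simp
  rw [h1]; simp

theorem phi_fix (n : P.N) : D.phi χ n ∈ fixSub (indRep χ) D.U := by
  classical
  intro a ha
  refine Subtype.ext (funext fun g => ?_)
  rw [indRep_apply]
  by_cases h : ∃ b : P.B, ∃ u ∈ D.U, g = u * n * b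
  · obtain ⟨b, u, hu, rfl⟩ := h
    have hval : ∀ u ∈ D.U, (D.phi χ n : G → k) (u * n * b) = ((χ b)⁻¹ : kˣ) := by
      intro u hu
      rw [show u * (n : G) * b = (u * n) * (b : G) by rfl, indSp_mul _ b.2]
      have h' : ∃ b : P.B, ∃ u' ∈ D.U, u * (n : G) = u' * n * b := ⟨1, u, hu, by simp⟩
      have : (D.phi χ n : G → k) (u * n) = 1 := by
        simp only [phi, dif_pos h']
        obtain ⟨u', hu', e⟩ := h'.choose_spec
        have h1 : χ h'.choose = 1 := by
          refine eq_one_of_pgroup χ (D.pU.map (MulAut.conj ((n : G)⁻¹)).toMonoidHom)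
            ⟨u'⁻¹ * u, mul_mem (inv_mem hu') hu, ?_⟩
          have : (h'.choose : G) = (n : G)⁻¹ * (u'⁻¹ * u) * n := by
            rw [show (h'.choose : G) = (n : G)⁻¹ * u'⁻¹ * (u' * n * h'.choose) by group, ← e]; group
          rw [this]; simp
        rw [h1]; simp
      rw [this, mul_one]
    rw [show a⁻¹ * (u * n * b) = a⁻¹ * u * n * (b : G) by group,
      hval _ (mul_mem (inv_mem ha) hu), hval u hu]
  · simp only [phi]
    rw [dif_neg, dif_neg h]
    rintro ⟨b, u, hu, e⟩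
    exact h ⟨b, a * u, mul_mem ha hu, by rw [mul_assoc a u, mul_assoc a, ← e]; group⟩

/-- A fixed function supported on one cell is a multiple of its basis function. -/
theorem eq_smul_phi {F : indSp χ} (hF : F ∈ fixSub (indRep χ) D.U) (n : P.N)
    (hsupp : ∀ g, (F : G → k) g ≠ 0 → g ∈ cosetOf P (n : G)) :
    F = (F : G → k) n • D.phi χ n := by
  refine Subtype.ext (funext fun g => ?_)
  rw [Submodule.coe_smul, Pi.smul_apply, smul_eq_mul]
  by_cases hg : g ∈ cosetOf P (n : G)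
  · obtain ⟨u, hu, b, hb, rfl⟩ := D.cosetOf_eq n.2 hg
    have h1 : ∀ F' : indSp χ, F' ∈ fixSub (indRep χ) D.U →
        (F' : G → k) (u * n * b) = ((χ ⟨b, hb⟩)⁻¹ : kˣ) * (F' : G → k) n := fun F' hF' => by
      rw [indSp_mul F' hb]
      have := congrFun (congrArg Subtype.val (hF' u⁻¹ (inv_mem hu))) (n : G)
      rw [indRep_apply, inv_inv] at this
      rw [this]
    rw [h1 F hF, h1 _ (D.phi_fix χ n), D.phi_self, mul_one, mul_comm]
  · have h1 : (F : G → k) g = 0 := by_contra fun h => hg (hsupp g h)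
    have h2 : (D.phi χ n : G → k) g = 0 := by_contra fun h => hg (D.phi_supp χ n h)
    rw [h1, h2, mul_zero]

/-- Right translation of the representative. -/
theorem phi_mul_torus (n : P.N) {t : G} (ht : t ∈ P.B ⊓ P.N) (n' : P.N) (e : (n' : G) = n * t) :
    D.phi χ n' = (χ ⟨t, ht.1⟩ : k) • D.phi χ n := by
  have hc : cosetOf P (n' : G) = cosetOf P (n : G) :=
    cosetOf_eq_of_mem P ((mem_cosetOf P).2 ⟨1, one_mem _, t, ht.1, by rw [e, one_mul]⟩)
  rw [D.eq_smul_phi χ (D.phi_fix χ n') n (fun g hg => hc ▸ D.phi_supp χ n' hg)]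
  congr 1
  have h := D.phi_self χ n'
  rw [e, indSp_mul _ ht.1] at h
  calc (D.phi χ n' : G → k) n = (χ ⟨t, ht.1⟩ : k) * ((((χ ⟨t, ht.1⟩)⁻¹ : kˣ) : k) *
        (D.phi χ n' : G → k) n) := by simp
    _ = _ := by rw [h, mul_one]

/-- The torus character on the basis function of `n`. -/
noncomputable def wtOf (n : P.N) : ↥(P.B ⊓ P.N) →* kˣ :=
  χ.comp (MonoidHom.mk' (fun t => (⟨(n : G)⁻¹ * t * n, (D.n_conj_mem n.2 t.2).1⟩ : P.B))
    fun a b => Subtype.ext (by simp only [Subgroup.coe_mul]; group))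

theorem phi_eig (n : P.N) : Eig (indRep χ) (D.wtOf χ n) (D.phi χ n) := by
  intro t
  have hfix : indRep χ (t : G) (D.phi χ n) ∈ fixSub (indRep χ) D.U :=
    D.smul_fix t.2 (D.phi_fix χ n)
  rw [D.eq_smul_phi χ hfix n]
  · congr 1
    rw [indRep_apply, show (t : G)⁻¹ * n = n * ((n : G)⁻¹ * (t : G)⁻¹ * n) by group,
      indSp_mul _ (D.n_conj_mem n.2 (inv_mem t.2)).1, D.phi_self, mul_one]
    have : (⟨(n : G)⁻¹ * (t : G)⁻¹ * n, (D.n_conj_mem n.2 (inv_mem t.2)).1⟩ : P.B) =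
        (⟨(n : G)⁻¹ * t * n, (D.n_conj_mem n.2 t.2).1⟩ : P.B)⁻¹ :=
      Subtype.ext (by simp only [Subgroup.coe_inv]; group)
    rw [this, map_inv, inv_inv]; rfl
  · intro g hg
    rw [indRep_apply] at hg
    obtain ⟨b, hb, c, hc, e⟩ := (mem_cosetOf P).1 (D.phi_supp χ n hg)
    exact (mem_cosetOf P).2 ⟨t * b, mul_mem t.2.1 hb, c, hc, by
      rw [show g = (t : G) * ((t : G)⁻¹ * g) by group, e]; group⟩

/-- Left multiplication by a simple reflection. -/
def sMul (s : P.S) (n : P.N) : P.N := ⟨s.1, P.subset s.2⟩ * n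

theorem coe_sMul (s : P.S) (n : P.N) : ((sMul s n : P.N) : G) = s.1 * n := rfl

theorem mk_sMul (s : P.S) (n : P.N) :
    (QuotientGroup.mk (sMul s n) : Weyl P) = BN.refl P s * QuotientGroup.mk n := by
  rw [sMul, BN.refl, ← QuotientGroup.mk_mul]

theorem op_longer (s : P.S) (n : P.N)
    (hlen : len P (QuotientGroup.mk n) < len P (BN.refl P s * QuotientGroup.mk n)) :
    D.op (indRep χ) s (D.phi χ n) = D.phi χ (sMul s n) := by
  classical
  letI := Fintype.ofFinite (D.X s)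
  have hval : ∀ g, (D.op (indRep χ) s (D.phi χ n) : G → k) g =
      ∑ x : D.X s, (D.phi χ n : G → k) (((x : G) * s.1)⁻¹ * g) := fun g => by
    rw [D.op_apply, AddSubmonoidClass.coe_finsetSum, Finset.sum_apply]; rfl
  have hBs : ∀ x : D.X s, (x : G) * s.1 ∈ cw P (BN.refl P s) := fun x =>
    mem_cw_left P (D.U_le (D.X_le s x.2)) (s_mem_cw P s)
  rw [D.eq_smul_phi χ (D.op_mem_fix s (D.phi_fix χ n)) (sMul s n)]
  · rw [hval, Finset.sum_eq_single 1]
    · rw [Subgroup.coe_one, one_mul, coe_sMul, inv_mul_cancel_left, D.phi_self, one_smul]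
    · intro x _ hx
      by_contra hne
      have h1 : ((x : G) * s.1)⁻¹ * (sMul s n : P.N) = s.1⁻¹ * (x : G)⁻¹ * s.1 * n := by
        rw [coe_sMul]; group
      rw [h1] at hne
      have hnB : s.1⁻¹ * (x : G)⁻¹ * s.1 ∉ P.B := fun h =>
        hx (Subtype.ext (inv_eq_one.1 (D.X_inj s _ (inv_mem x.2) h)))
      have hcs : s.1⁻¹ * (x : G)⁻¹ * s.1 ∈ cw P (BN.refl P s) := by
        have hs' : s.1⁻¹ * (x : G)⁻¹ ∈ cw P (BN.refl P s) := by
          have := inv_mem_cw P (hBs x)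
          rwa [BN.refl_inv, mul_inv_rev] at this
        rcases mul_cw_refl P hs' (s_mem_cw P s) with h | h
        · rw [refl_sq] at h
          exact absurd ((mem_B_iff_cw_one P).2 h) hnB
        · exact h
      have hin : s.1⁻¹ * (x : G)⁻¹ * s.1 * n ∈ cw P (BN.refl P s * QuotientGroup.mk n) :=
        mul_of_len_ge P s _ _ le_rfl hlen.le _ hcs _ (by rw [cw_mk]; exact self_mem_cosetOf P _)
      have heq := eq_of_mem P hin (by rw [cw_mk]; exact D.phi_supp χ n hne)
      exact refl_ne_one P s (mul_eq_right.1 heq)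
    · exact fun h => absurd (Finset.mem_univ _) h
  · intro g hg
    rw [hval] at hg
    obtain ⟨x, -, hx⟩ := Finset.exists_ne_zero_of_sum_ne_zero hg
    have h1 := mul_of_len_ge P s _ _ le_rfl hlen.le _ (hBs x) _
      (show ((x : G) * s.1)⁻¹ * g ∈ cw P (QuotientGroup.mk n) by
        rw [cw_mk]; exact D.phi_supp χ n hx)
    rw [mul_inv_cancel_left, ← mk_sMul, cw_mk] at h1
    exact h1

theorem triv_iff_sMul (s : P.S) (m : P.N) :
    (∀ l, D.wtOf χ (sMul s m) ⟨D.cor s l, D.cor_mem s l⟩ = 1) ↔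
      ∀ l, D.wtOf χ m ⟨D.cor s l, D.cor_mem s l⟩ = 1 := by
  have h : ∀ l, D.wtOf χ (sMul s m) ⟨D.cor s l, D.cor_mem s l⟩ =
      D.wtOf χ m ⟨D.cor s l⁻¹, D.cor_mem s _⟩ := fun l => by
    refine congrArg χ (Subtype.ext ?_)
    show ((sMul s m : P.N) : G)⁻¹ * D.cor s l * (sMul s m : P.N) = (m : G)⁻¹ * D.cor s l⁻¹ * m
    have hsc : D.cor s l⁻¹ = s.1⁻¹ * D.cor s l * s.1 := (D.s_cor s l).symm
    rw [coe_sMul, hsc]; group
  simp only [h]
  exact ⟨fun hh l => by simpa using hh l⁻¹, fun hh l => hh l⁻¹⟩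

theorem op_shorter (hΛ : p ∣ Nat.card Λ + 1) (s : P.S) (n : P.N)
    (hlen : len P (BN.refl P s * QuotientGroup.mk n) < len P (QuotientGroup.mk n)) :
    D.op (indRep χ) s (D.phi χ n) = D.cval (D.wtOf χ n) s • D.phi χ n := by
  set m : P.N := (⟨s.1, P.subset s.2⟩ : P.N)⁻¹ * n with hm
  have e : sMul s m = n := by rw [sMul, hm]; group
  have hmk : BN.refl P s * QuotientGroup.mk n = QuotientGroup.mk m := by
    rw [← e, mk_sMul, ← mul_assoc, refl_sq, one_mul]
  rw [hmk] at hlen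
  have hl : len P (QuotientGroup.mk m) < len P (BN.refl P s * QuotientGroup.mk m) := by
    rw [← mk_sMul, e]; exact hlen
  have h1 : D.op (indRep χ) s (D.phi χ m) = D.phi χ n := by rw [D.op_longer χ s m hl, e]
  have h2 := D.op_sq hΛ (ρ := indRep χ) s (D.phi_fix χ m) (D.phi_eig χ m)
  rw [h1] at h2
  rw [h2, cval, cval]
  congr 1
  have := D.triv_iff_sMul χ s m
  rw [e] at this
  by_cases h : ∀ l, D.wtOf χ m ⟨D.cor s l, D.cor_mem s l⟩ = 1
  · rw [if_pos h, if_pos (this.2 h)]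
  · rw [if_neg h, if_neg fun hh => h (this.1 hh)]

variable {M : Type*} [AddCommGroup M] [Module k M]

/-- Every irreducible representation has a weight. -/
theorem exists_weight [IsAlgClosed k] [FiniteDimensional k M] (hΛ : p ∣ Nat.card Λ + 1)
    {ρ : Representation k G M} (hρ : Irred ρ) :
    ∃ θ L v, D.IsWt ρ θ L v := by
  classical
  haveI : Fintype G := Fintype.ofFinite G
  obtain ⟨w, hw⟩ := hρ.1
  obtain ⟨z, -, hz0, hzU⟩ := CfsgLib.DefectZero.exists_fixed_ne_zero D.pU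
    (ρ.comp D.U.subtype) ⊤ (fun _ _ _ => Submodule.mem_top) (Submodule.mem_top : w ∈ ⊤) hw
  have hne : fixSub ρ D.U ≠ ⊥ :=
    (Submodule.ne_bot_iff _).2 ⟨z, fun h hh => hzU ⟨h, hh⟩, hz0⟩
  obtain ⟨v, hv, hv0, hev⟩ := CfsgLib.DefectZero.exists_common_eigen
    (fun t : ↥(P.B ⊓ P.N) => ρ (t : G))
    (fun a b z => by rw [← rho_mul, ← rho_mul, D.T_comm a.2 b.2]) (fixSub ρ D.U)
    (fun t z hz => D.smul_fix t.2 hz) hne
  choose μ hμ using hev
  have hinj : ∀ {a b : k}, a • v = b • v → a = b := fun h =>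
    smul_left_injective k hv0 h
  have hμ1 : μ 1 = 1 := hinj (by rw [← hμ]; simp)
  have hμm : ∀ a b, μ (a * b) = μ a * μ b := fun a b => hinj (by
    rw [← hμ, Subgroup.coe_mul, rho_mul, hμ b, map_smul, hμ a, smul_smul, mul_comm])
  let θ₀ : ↥(P.B ⊓ P.N) →* kˣ := MonoidHom.toHomUnits ⟨⟨μ, hμ1⟩, hμm⟩
  let χ : P.B →* kˣ := θ₀.comp (D.tPart hΛ)
  have hB : ∀ b : P.B, ρ (b : G) v = (χ b : k) • v := by
    intro b
    obtain ⟨ht, u, hu, e⟩ := (D.B_eq b.1 b.2).choose_spec
    conv_lhs => rw [e]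
    rw [rho_mul, hv u hu]
    exact hμ (D.tPart hΛ b)
  let f : indSp χ →ₗ[k] M :=
    { toFun := fun F => ∑ q : G ⧸ P.B, (F : G → k) q.out • ρ q.out v
      map_add' := fun a b => by simp [add_smul, Finset.sum_add_distrib]
      map_smul' := fun r a => by simp [smul_smul, Finset.smul_sum] }
  have hf : ∀ g F, f (indRep χ g F) = ρ g (f F) := by
    intro g F
    show ∑ q : G ⧸ P.B, (indRep χ g F : G → k) q.out • ρ q.out v = ρ g (f F)
    rw [← Equiv.sum_comp (MulAction.toPerm g) _, show f F = ∑ q : G ⧸ P.B, (F : G → k) q.out • ρ q.out v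
      from rfl, map_sum]
    refine Finset.sum_congr rfl fun q _ => ?_
    rw [MulAction.toPerm_apply, indRep_apply, map_smul, ← rho_mul]
    obtain ⟨b, hb⟩ : ∃ b : P.B, (g • q).out = g * q.out * b := by
      refine ⟨⟨(g * q.out)⁻¹ * (g • q).out, ?_⟩, by group⟩
      rw [← QuotientGroup.eq, QuotientGroup.out_eq']
      conv_rhs => rw [← QuotientGroup.out_eq' q]
      rfl
    rw [hb, show g⁻¹ * (g * q.out * b) = q.out * (b : G) by group, F.2, rho_mul _ (g * q.out), hB,
      map_smul, smul_smul, mul_right_comm, Units.inv_mul, one_mul]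
  have hf1 : f (D.phi χ 1) ≠ 0 := by
    show ∑ q : G ⧸ P.B, (D.phi χ 1 : G → k) q.out • ρ q.out v ≠ 0
    rw [Finset.sum_eq_single (QuotientGroup.mk 1)]
    · have hb : ((QuotientGroup.mk 1 : G ⧸ P.B).out) ∈ P.B := by
        have := QuotientGroup.out_eq' (QuotientGroup.mk (1 : G) : G ⧸ P.B)
        simpa using QuotientGroup.eq.1 this.symm
      set b := (QuotientGroup.mk 1 : G ⧸ P.B).out
      have hphi : (D.phi χ 1 : G → k) b = ((χ ⟨b, hb⟩)⁻¹ : kˣ) := by
        have h1 := indSp_mul (D.phi χ 1) (g := (1 : G)) hb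
        have h2 := D.phi_self χ 1
        rw [Subgroup.coe_one] at h2
        rw [one_mul, h2, mul_one] at h1
        exact h1
      rw [hphi, show ρ b v = (χ ⟨b, hb⟩ : k) • v from hB ⟨b, hb⟩, smul_smul, Units.inv_mul, one_smul]
      exact hv0
    · intro q _ hq
      by_contra h
      have h' : (D.phi χ 1 : G → k) q.out ≠ 0 := fun e => h (by rw [e, zero_smul])
      obtain ⟨b, hb, c, hc, e⟩ := (mem_cosetOf P).1 (D.phi_supp χ 1 h')
      refine hq ?_
      rw [← QuotientGroup.out_eq' q, QuotientGroup.eq, mul_one]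
      refine inv_mem ?_
      rw [e, Subgroup.coe_one, mul_one]
      exact mul_mem hb hc
    · simp
  obtain ⟨n, hn, hmax⟩ := Set.exists_max_image {n : P.N | f (D.phi χ n) ≠ 0}
    (fun n : P.N => len P (QuotientGroup.mk n)) (Set.toFinite _) ⟨1, hf1⟩
  let L : Set P.S := {s | len P (QuotientGroup.mk n) < len P (BN.refl P s * QuotientGroup.mk n) ∧
    ∀ l, D.wtOf χ n ⟨D.cor s l, D.cor_mem s l⟩ = 1}
  have hlong : ∀ s, len P (QuotientGroup.mk n) < len P (BN.refl P s * QuotientGroup.mk n) →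
      D.op ρ s (f (D.phi χ n)) = 0 := by
    intro s hs
    rw [← D.op_equivariant f hf, D.op_longer χ s n hs]
    by_contra h
    have := hmax _ h
    rw [mk_sMul] at this
    omega
  refine ⟨D.wtOf χ n, L, f (D.phi χ n), hn, fun a ha => by rw [← hf, D.phi_fix χ n a ha],
    fun t => by rw [← hf, D.phi_eig χ n t, map_smul], fun s hs => hs.2, fun s hs => hlong s hs.1,
    fun s hs => ?_⟩
  rcases lt_or_gt_of_ne (len_refl_mul_ne P s (QuotientGroup.mk n)) with h | h
  · rw [← D.op_equivariant f hf, D.op_shorter χ hΛ s n h, map_smul]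
  · rw [hlong s h, cval, if_neg fun ht => hs ⟨h, ht⟩, zero_smul]

end SplitData

end CfsgLib.CRWeights
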