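import Cfsg.Agent.CRWeights.Induced

/-!
# Weights classify the irreducible representations; the count of `p`-regular classes
-/

set_option autoImplicit false
set_option linter.style.haveILetI false
set_option linter.unusedSectionVars false

namespace CfsgLib.CRWeights

open CfsgLib.BN CfsgLib.StCh

attribute [local instance] torus_normal

namespace SplitData

variable {G : Type*} [Group G] [Finite G] {k : Type*} [Field k] [IsAlgClosed k]
variable {P : Cfsg.BNPair G} {p : ℕ} [Fact p.Prime] [CharP k p]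
variable {Λ : Type*} [CommGroup Λ] [Fintype Λ] (D : SplitData P p Λ)
variable {M : Type*} [AddCommGroup M] [Module k M] [FiniteDimensional k M]

theorem irred_dual {ρ : Representation k G M} (hρ : Irred ρ) : Irred ρ.dual := by
  obtain ⟨v, hv⟩ := hρ.1
  haveI : Nontrivial M := ⟨⟨v, 0, hv⟩⟩
  refine ⟨exists_ne 0, fun W hW => ?_⟩
  have hinv : Inv ρ W.dualCoannihilator := by
    intro g x hx
    rw [Submodule.mem_dualCoannihilator] at hx ⊢
    intro φ hφ
    have := hx _ (hW g⁻¹ φ hφ)
    rw [Representation.dual_apply, inv_inv] at this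
    exact this
  rcases hρ.2 _ hinv with h | h
  · right
    rw [← Subspace.dualCoannihilator_dualAnnihilator_eq (W := W), h, Submodule.dualAnnihilator_bot]
  · left
    rw [← Subspace.dualCoannihilator_dualAnnihilator_eq (W := W), h, Submodule.dualAnnihilator_top]

/-- In an irreducible representation the `U`-fixed vectors form a line. -/
theorem fix_proportional (hΛ : p ∣ Nat.card Λ + 1) {ρ : Representation k G M} (hρ : Irred ρ)
    {v v' : M} (hv : v ∈ fixSub ρ D.U) (hv0 : v ≠ 0) (hv' : v' ∈ fixSub ρ D.U) :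
    ∃ c : k, v' = c • v := by
  obtain ⟨g, hg⟩ := D.V_conj
  obtain ⟨θ, L, w, hw⟩ := D.exists_weight hΛ (irred_dual hρ)
  have hgen := (irred_dual hρ).gen hw.ne
  have key : ∀ u ∈ fixSub ρ D.U, D.FixFun (ρ := ρ.dual) (Module.Dual.eval k M (ρ g u)) := by
    intro u hu y hy φ
    show φ (ρ y⁻¹ (ρ g u)) = φ (ρ g u)
    rw [← rho_mul, show y⁻¹ * g = g * (g⁻¹ * y⁻¹ * g) by group, rho_mul, hu _ (hg _ (inv_mem hy))]
  have hzero : ∀ u ∈ fixSub ρ D.U, w (ρ g u) = 0 → u = 0 := by
    intro u hu h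
    have h1 := D.fixFun_unique hw hgen (key u hu) h
    have h2 : ρ g u = 0 := (Module.eval_apply_eq_zero_iff k (ρ g u)).1 h1
    have h3 := congrArg (ρ g⁻¹) h2
    rwa [← rho_mul, inv_mul_cancel, map_one, map_zero] at h3
  have ha : w (ρ g v) ≠ 0 := fun h => hv0 (hzero v hv h)
  refine ⟨w (ρ g v') / w (ρ g v), sub_eq_zero.1 (hzero _ (Submodule.sub_mem _ hv'
    (Submodule.smul_mem _ _ hv)) ?_)⟩
  simp [map_sub, map_smul, div_mul_cancel₀ _ ha]

/-- The weight of an irreducible representation is unique. -/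
theorem weight_unique (hΛ : p ∣ Nat.card Λ + 1) {ρ : Representation k G M} (hρ : Irred ρ)
    {θ θ' : ↥(P.B ⊓ P.N) →* kˣ} {L L' : Set P.S} {v v' : M} (h : D.IsWt ρ θ L v)
    (h' : D.IsWt ρ θ' L' v') : θ = θ' ∧ L = L' := by
  obtain ⟨c, rfl⟩ := D.fix_proportional hΛ hρ h.fix h.ne h'.fix
  have hc : c ≠ 0 := fun e => h'.ne (by rw [e, zero_smul])
  have hθ : θ = θ' := by
    refine MonoidHom.ext fun t => Units.ext ?_
    have e := h'.eig t
    rw [map_smul, h.eig t, smul_smul, smul_smul, mul_comm] at e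
    exact mul_right_cancel₀ hc (smul_left_injective k h.ne e)
  subst hθ
  refine ⟨rfl, Set.ext fun s => ?_⟩
  constructor
  · intro hs
    by_contra hs'
    have e := h'.op_out s hs'
    rw [map_smul, h.op_in s hs, smul_zero] at e
    rw [cval, if_pos (h.triv s hs)] at e
    exact h'.ne (by simpa using e.symm)
  · intro hs
    by_contra hs'
    have e := h'.op_in s hs
    rw [map_smul, h.op_out s hs', cval, if_pos (h'.triv s hs)] at e
    exact h'.ne (by simpa using e)

section Existence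

variable {wl : Finset P.S → Weyl P}

/-- The torus generated by the coroots of a set. -/
noncomputable def torL (L : Set P.S) : Subgroup G :=
  Subgroup.closure (⋃ s ∈ L, Set.range (D.cor s))

/-- The group generated by a set of simple reflections and its torus. -/
noncomputable def levL (L : Set P.S) : Subgroup G :=
  Subgroup.closure (Subtype.val '' L ∪ ⋃ s ∈ L, Set.range (D.cor s))

variable {L : Set P.S} {θ : ↥(P.B ⊓ P.N) →* kˣ}

theorem levL_le_N (L : Set P.S) : D.levL L ≤ P.N := by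
  rw [levL, Subgroup.closure_le]
  rintro x (⟨s, -, rfl⟩ | hx)
  · exact P.subset s.2
  · obtain ⟨s, -, l, rfl⟩ := Set.mem_iUnion₂.1 hx
    exact (D.cor_mem s l).2

theorem torL_le (L : Set P.S) : D.torL L ≤ P.B ⊓ P.N := by
  rw [torL, Subgroup.closure_le]
  intro x hx
  obtain ⟨s, -, l, rfl⟩ := Set.mem_iUnion₂.1 hx
  exact D.cor_mem s l

theorem theta_torL (htr : ∀ s ∈ L, ∀ l, θ ⟨D.cor s l, D.cor_mem s l⟩ = 1) :
    ∀ x (hx : x ∈ D.torL L), θ ⟨x, D.torL_le L hx⟩ = 1 := by
  intro x hx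
  induction hx using Subgroup.closure_induction with
  | mem y hy =>
    obtain ⟨s, hs, l, rfl⟩ := Set.mem_iUnion₂.1 hy
    exact htr s hs l
  | one => exact map_one θ
  | mul a b ha hb iha ihb =>
    rw [show (⟨a * b, D.torL_le L (mul_mem ha hb)⟩ : ↥(P.B ⊓ P.N)) =
      ⟨a, D.torL_le L ha⟩ * ⟨b, D.torL_le L hb⟩ from rfl, map_mul, iha, ihb, mul_one]
  | inv a ha iha =>
    rw [show (⟨a⁻¹, D.torL_le L (inv_mem ha)⟩ : ↥(P.B ⊓ P.N)) = ⟨a, D.torL_le L ha⟩⁻¹ from rfl,
      map_inv, iha, inv_one]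

theorem theta_invariant (htr : ∀ s ∈ L, ∀ l, θ ⟨D.cor s l, D.cor_mem s l⟩ = 1) {x : G}
    (hx : x ∈ D.levL L) : ∀ t u : ↥(P.B ⊓ P.N), (u : G) = x⁻¹ * t * x → θ u = θ t := by
  induction hx using Subgroup.closure_induction with
  | mem y hy =>
    rcases hy with ⟨s, hs, rfl⟩ | hy
    · intro t u e
      obtain ⟨l, hl⟩ := D.s_T s t t.2
      have : u = t * ⟨D.cor s l, D.cor_mem s l⟩ := Subtype.ext (e.trans hl)
      rw [this, map_mul, htr s hs l, mul_one]
    · intro t u e
      obtain ⟨s, -, l, rfl⟩ := Set.mem_iUnion₂.1 hy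
      have : u = t := Subtype.ext (by
        rw [e, mul_assoc, D.T_comm t.2 (D.cor_mem s l), inv_mul_cancel_left])
      rw [this]
  | one => intro t u e; rw [show u = t from Subtype.ext (by simpa using e)]
  | mul a b ha hb iha ihb =>
    intro t u e
    have hmem := D.n_conj_mem (D.levL_le_N L ha) t.2
    rw [ihb ⟨_, hmem⟩ u (by rw [e]; simp only; group), iha t ⟨_, hmem⟩ rfl]
  | inv a ha iha =>
    intro t u e
    exact (iha u t (by rw [e]; group)).symm

theorem exists_levL_rep {w : Weyl P} (hw : WJ P L w) :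
    ∃ n : P.N, (n : G) ∈ D.levL L ∧ QuotientGroup.mk n = w := by
  obtain ⟨R, hR, rfl⟩ := hw
  induction R with
  | nil => exact ⟨1, one_mem _, rfl⟩
  | cons s R ih =>
    obtain ⟨n, hn, e⟩ := ih fun x hx => hR x (List.mem_cons_of_mem _ hx)
    refine ⟨sMul s n, ?_, by rw [mk_sMul, e, wprod_cons]⟩
    rw [coe_sMul]
    exact mul_mem (Subgroup.subset_closure (Or.inl ⟨s, hR s List.mem_cons_self, rfl⟩)) hn

include D in
theorem n_conj_mem' {n t : G} (hn : n ∈ P.N) (ht : t ∈ P.B ⊓ P.N) :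
    n * t * n⁻¹ ∈ P.B ⊓ P.N := by
  simpa using D.n_conj_mem (P.N.inv_mem hn) ht

/-- Every weight occurs in an irreducible representation. -/
theorem exists_irred_of_weight (hwl : HasLongest P wl) (hΛ : p ∣ Nat.card Λ + 1)
    (θ : ↥(P.B ⊓ P.N) →* kˣ) (L : Set P.S)
    (htr : ∀ s ∈ L, ∀ l, θ ⟨D.cor s l, D.cor_mem s l⟩ = 1) :
    ∃ (N : Submodule k (G → k)) (Q : Submodule k N) (σ : Representation k G (N ⧸ Q)) (v : N ⧸ Q),
      Irred σ ∧ D.IsWt σ θ L v := by
  classical
  haveI : Finite (Weyl P) := Quotient.finite _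
  haveI : Fintype (Weyl P) := Fintype.ofFinite _
  haveI : Fintype P.S := Fintype.ofFinite _
  obtain ⟨n₀, hn₀⟩ := QuotientGroup.mk_surjective (wl Finset.univ)
  let cj : ↥(P.B ⊓ P.N) →* ↥(P.B ⊓ P.N) :=
    MonoidHom.mk' (fun t => ⟨(n₀ : G) * t * (n₀ : G)⁻¹, D.n_conj_mem' n₀.2 t.2⟩)
      fun a b => Subtype.ext (by simp only [Subgroup.coe_mul]; group)
  let χ : P.B →* kˣ := (θ.comp cj).comp (D.tPart hΛ)
  have hχT : ∀ t : ↥(P.B ⊓ P.N), χ ⟨t, t.2.1⟩ = θ (cj t) := by
    intro t
    have : D.tPart hΛ ⟨t, t.2.1⟩ = t := by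
      obtain ⟨ht, u, hu, e⟩ := (D.B_eq t t.2.1).choose_spec
      refine Subtype.ext ?_
      show (D.B_eq t t.2.1).choose = t
      set t' := (D.B_eq t t.2.1).choose
      have h1 : t'⁻¹ * t = u := by rw [e]; group
      exact inv_mul_eq_one.1 (D.T_inf_U hΛ (mul_mem (inv_mem ht) t.2) (h1 ▸ hu))
    show θ (cj (D.tPart hΛ ⟨t, t.2.1⟩)) = _
    rw [this]
  -- longest element
  have hlen : ∀ w : Weyl P, len P (w * wl Finset.univ) + len P w = len P (wl Finset.univ) := by
    intro w
    have := len_inv_mul_longest hwl Finset.univ (v := w⁻¹) (by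
      rw [Finset.coe_univ]; exact wJ_univ _)
    rwa [inv_inv, len_inv] at this
  let rp : Weyl P → P.N := fun w => if h : WJ P L w then (D.exists_levL_rep h).choose else 1
  have hrp : ∀ {w}, WJ P L w → (rp w : G) ∈ D.levL L ∧ QuotientGroup.mk (rp w) = w := by
    intro w hw
    simp only [rp, dif_pos hw]
    exact (D.exists_levL_rep hw).choose_spec
  let ψ : Weyl P → indSp χ := fun w => D.phi χ (rp w * n₀)
  have hψθ : ∀ {w}, WJ P L w → ∀ t, D.wtOf χ (rp w * n₀) t = θ t := by
    intro w hw t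
    show χ ⟨((rp w * n₀ : P.N) : G)⁻¹ * t * (rp w * n₀ : P.N), _⟩ = θ t
    rw [hχT ⟨_, D.n_conj_mem (rp w * n₀).2 t.2⟩]
    refine D.theta_invariant htr (hrp hw).1 t _ ?_
    show (n₀ : G) * (((rp w * n₀ : P.N) : G)⁻¹ * t * (rp w * n₀ : P.N)) * (n₀ : G)⁻¹ = _
    rw [Subgroup.coe_mul]; group
  have hstep : ∀ s ∈ L, ∀ {w}, WJ P L w →
      D.phi χ (sMul s (rp w * n₀)) = ψ (BN.refl P s * w) := by
    intro s hs w hw
    have hw' : WJ P L (BN.refl P s * w) := wJ_mul (wJ_refl hs) hw
    obtain ⟨h1, h2⟩ := hrp hw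
    obtain ⟨h1', h2'⟩ := hrp hw'
    set a := rp (BN.refl P s * w) with ha
    set t : G := (a : G)⁻¹ * (s.1 * rp w) with ht
    have htL : t ∈ D.levL L :=
      mul_mem (inv_mem h1') (mul_mem (Subgroup.subset_closure (Or.inl ⟨s, hs, rfl⟩)) h1)
    have htB : t ∈ P.B := by
      have e : (QuotientGroup.mk a : Weyl P) = QuotientGroup.mk (sMul s (rp w)) := by
        rw [h2', mk_sMul, h2]
      have := (QuotientGroup.eq.1 e)
      exact (Subgroup.mem_inf.1 (Subgroup.mem_subgroupOf.1 this)).1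
    have htT : t ∈ D.torL L := D.coh L ⟨htL, htB⟩
    have ht2 : (n₀ : G)⁻¹ * t * n₀ ∈ P.B ⊓ P.N := D.n_conj_mem n₀.2 (D.torL_le L htT)
    rw [D.phi_mul_torus χ (a * n₀) ht2 (sMul s (rp w * n₀)) (by
      rw [coe_sMul, Subgroup.coe_mul, Subgroup.coe_mul, ht]; group)]
    have : χ ⟨(n₀ : G)⁻¹ * t * n₀, ht2.1⟩ = 1 := by
      rw [hχT ⟨_, ht2⟩]
      have : cj ⟨(n₀ : G)⁻¹ * t * n₀, ht2⟩ = ⟨t, D.torL_le L htT⟩ := Subtype.ext (by
        show (n₀ : G) * ((n₀ : G)⁻¹ * t * n₀) * (n₀ : G)⁻¹ = t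
        group)
      rw [this, D.theta_torL htr t htT]
    rw [this, Units.val_one, one_smul]
  have hmk : ∀ {w}, WJ P L w → (QuotientGroup.mk (rp w * n₀) : Weyl P) = w * wl Finset.univ := by
    intro w hw
    rw [QuotientGroup.mk_mul, (hrp hw).2, hn₀]
  let S := Finset.univ.filter fun w : Weyl P => WJ P L w
  have hS : ∀ {w}, w ∈ S ↔ WJ P L w := fun {w} => by simp [S]
  set v : indSp χ := ∑ w ∈ S, ψ w with hvdef
  have hfix : v ∈ fixSub (indRep χ) D.U := Submodule.sum_mem _ fun w _ => D.phi_fix χ _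
  have heig : Eig (indRep χ) θ v := fun t => by
    rw [hvdef, map_sum, Finset.smul_sum]
    refine Finset.sum_congr rfl fun w hw => ?_
    rw [D.phi_eig χ (rp w * n₀) t, hψθ (hS.1 hw)]
  have hlt : ∀ s {w}, WJ P L w →
      (len P (BN.refl P s * QuotientGroup.mk (rp w * n₀)) < len P (QuotientGroup.mk (rp w * n₀)) ↔
        len P w < len P (BN.refl P s * w)) := by
    intro s w hw
    rw [hmk hw, ← mul_assoc]
    have := hlen w
    have := hlen (BN.refl P s * w)
    omega
  have hin : ∀ s ∈ L, D.op (indRep χ) s v = 0 := by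
    intro s hs
    rw [hvdef, map_sum]
    refine Finset.sum_involution (fun w _ => BN.refl P s * w) ?_ ?_ ?_ ?_
    · intro w hw
      have hw' := hS.1 hw
      have hsw : WJ P L (BN.refl P s * w) := wJ_mul (wJ_refl hs) hw'
      have hc : ∀ {u}, WJ P L u → D.cval (D.wtOf χ (rp u * n₀)) s = -1 := fun hu => by
        rw [cval, if_pos fun l => by rw [hψθ hu]; exact htr s hs l]
      have hss : BN.refl P s * (BN.refl P s * w) = w := by rw [← mul_assoc, refl_sq, one_mul]
      have e1 : (QuotientGroup.mk (rp (BN.refl P s * w) * n₀) : Weyl P) =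
          BN.refl P s * QuotientGroup.mk (rp w * n₀) := by
        rw [hmk hsw, hmk hw', mul_assoc]
      have e2 : BN.refl P s * QuotientGroup.mk (rp (BN.refl P s * w) * n₀) =
          (QuotientGroup.mk (rp w * n₀) : Weyl P) := by
        rw [e1, ← mul_assoc, refl_sq, one_mul]
      rcases lt_or_gt_of_ne (len_refl_mul_ne P s (QuotientGroup.mk (rp w * n₀))) with h | h
      · rw [D.op_shorter χ hΛ s _ h, hc hw', D.op_longer χ s _ (by rw [e2, e1]; exact h),
          hstep s hs hsw, hss]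
        exact (congrArg (· + _) (neg_one_smul k _)).trans (neg_add_cancel _)
      · rw [D.op_longer χ s _ h, D.op_shorter χ hΛ s _ (by rw [e2, e1]; exact h), hc hsw,
          hstep s hs hw']
        exact (congrArg (_ + ·) (neg_one_smul k _)).trans (add_neg_cancel _)
    · intro w _ _ h
      exact refl_ne_one P s (mul_eq_right.1 h)
    · intro w hw
      exact hS.2 (wJ_mul (wJ_refl hs) (hS.1 hw))
    · intro w _
      rw [← mul_assoc, refl_sq, one_mul]
  have hout : ∀ s ∉ L, D.op (indRep χ) s v = D.cval θ s • v := by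
    intro s hs
    rw [hvdef, map_sum, Finset.smul_sum]
    refine Finset.sum_congr rfl fun w hw => ?_
    have hw' := hS.1 hw
    rw [D.op_shorter χ hΛ s _ ((hlt s hw').2 ?_), show D.wtOf χ (rp w * n₀) = θ from
      MonoidHom.ext (hψθ hw')]
    rcases lt_or_gt_of_ne (len_refl_mul_ne P s w) with h | h
    · exfalso
      obtain ⟨R, hR, hwR, hRlen⟩ : ∃ R : List P.S, (∀ x ∈ R, x ∈ L) ∧ wprod P R = w ∧
          len P (wprod P R) = R.length := by
        obtain ⟨R, h1, h2, h3⟩ := exists_reduced_wJ hw'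
        exact ⟨R, h1, h2, by rw [h2, h3]⟩
      obtain ⟨i, hi, he⟩ := exchange P s R hRlen (by rw [← hRlen, hwR]; exact h)
      refine hs (mem_of_refl_wJ (J := L) ?_)
      have hsw : WJ P L (BN.refl P s * w) := by
        rw [← hwR, he]
        exact ⟨_, fun x hx => hR x (List.mem_of_mem_eraseIdx hx), rfl⟩
      have := wJ_mul hsw (wJ_inv hw')
      rwa [mul_assoc, mul_inv_cancel, mul_one] at this
    · exact h
  have hv0 : v ≠ 0 := by
    intro h
    have h1 := congrArg (fun F : indSp χ => (F : G → k) (rp 1 * n₀ : P.N)) h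
    simp only [hvdef, AddSubmonoidClass.coe_finsetSum, Finset.sum_apply, ZeroMemClass.coe_zero,
      Pi.zero_apply] at h1
    rw [Finset.sum_eq_single 1] at h1
    · exact one_ne_zero (α := k) ((D.phi_self χ _).symm.trans h1)
    · intro w hw hne
      by_contra hh
      refine hne ?_
      have hin1 := D.phi_supp χ _ hh
      have := eq_of_mem P (w := QuotientGroup.mk (rp w * n₀)) (by rw [cw_mk]; exact hin1)
        (w' := QuotientGroup.mk (rp 1 * n₀)) (by rw [cw_mk]; exact self_mem_cosetOf P _)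
      rw [hmk (hS.1 hw), hmk (wJ_one L)] at this
      exact mul_right_cancel this
    · exact fun h => absurd (hS.2 (wJ_one L)) h
  have hwt : D.IsWt (indRep χ) θ L v := ⟨hv0, hfix, heig, htr, hin, hout⟩
  -- the generated subrepresentation, transported to a submodule of functions
  let N' : Submodule k (indSp χ) := Submodule.span k (Set.range fun g : G => indRep χ g v)
  have hN' : Inv (indRep χ) N' := by
    intro g w hw
    induction hw using Submodule.span_induction with
    | mem w hw =>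
      obtain ⟨h, rfl⟩ := hw
      exact Submodule.subset_span ⟨g * h, rho_mul _ g h _⟩
    | zero => rw [map_zero]; exact N'.zero_mem
    | add a b _ _ ha hb => rw [map_add]; exact N'.add_mem ha hb
    | smul c a _ ha => rw [map_smul]; exact N'.smul_mem c ha
  let N : Submodule k (G → k) := N'.map (indSp χ).subtype
  let e : N' ≃ₗ[k] N := Submodule.equivMapOfInjective _ (indSp χ).injective_subtype N'
  let τ : Representation k G N :=
    { toFun := fun g => (e.toLinearMap.comp (resRep (indRep χ) hN' g)).comp e.symm.toLinearMap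
      map_one' := LinearMap.ext fun x => by simp
      map_mul' := fun a b => LinearMap.ext fun x => by simp }
  let v₀ : N' := ⟨v, Submodule.subset_span ⟨1, by simp⟩⟩
  let w : N := e v₀
  have hgen : Gen τ w := by
    intro W hW hw
    refine Submodule.eq_top_iff'.2 fun x => ?_
    obtain ⟨y, rfl⟩ := e.surjective x
    obtain ⟨y, hy⟩ := y
    induction hy using Submodule.span_induction with
    | mem z hz =>
      obtain ⟨g, rfl⟩ := hz
      have : τ g w ∈ W := hW g w hw
      have e2 : τ g w = e (resRep (indRep χ) hN' g v₀) := by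
        show e (resRep (indRep χ) hN' g (e.symm (e v₀))) = _
        rw [LinearEquiv.symm_apply_apply]
      rwa [e2] at this
    | zero => exact (map_zero e) ▸ W.zero_mem
    | add a b ha hb iha ihb => exact (map_add e ⟨a, ha⟩ ⟨b, hb⟩).symm ▸ W.add_mem iha ihb
    | smul c a ha iha => exact (map_smul e c ⟨a, ha⟩).symm ▸ W.smul_mem c iha
  have hwt₀ : D.IsWt (resRep (indRep χ) hN') θ L v₀ := by
    have hsub : ∀ g x, N'.subtype (resRep (indRep χ) hN' g x) = indRep χ g (N'.subtype x) :=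
      fun _ _ => rfl
    refine ⟨fun h => hv0 (congrArg Subtype.val h), fun a ha => Subtype.ext (hfix a ha),
      fun t => Subtype.ext (heig t), htr, fun s hs => Subtype.ext ?_, fun s hs => Subtype.ext ?_⟩
    · exact (D.op_equivariant N'.subtype hsub s v₀).trans (hin s hs)
    · exact (D.op_equivariant N'.subtype hsub s v₀).trans (hout s hs)
  have hwtN : D.IsWt τ θ L w := IsWt.map D hwt₀ e.toLinearMap (fun g x => by
    show e (resRep (indRep χ) hN' g x) = e (resRep (indRep χ) hN' g (e.symm (e x)))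
    rw [LinearEquiv.symm_apply_apply]) (fun h => hwt₀.ne (e.map_eq_zero_iff.1 h))
  obtain ⟨Q, hQ, hwQ, hmax⟩ := D.exists_max hwtN hgen
  refine ⟨N, Q, quotRep τ hQ, Submodule.Quotient.mk w, ⟨⟨Submodule.Quotient.mk w, ?_⟩, ?_⟩, ?_⟩
  · rwa [Ne, Submodule.Quotient.mk_eq_zero]
  · intro W hW
    have hpre : Inv τ (W.comap Q.mkQ) := fun g x hx => hW g _ hx
    by_cases h : W.comap Q.mkQ = ⊤
    · right
      refine Submodule.eq_top_iff'.2 fun x => ?_
      obtain ⟨x, rfl⟩ := Q.mkQ_surjective x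
      exact (Submodule.eq_top_iff'.1 h x)
    · left
      refine (Submodule.eq_bot_iff W).2 fun x hx => ?_
      obtain ⟨x, rfl⟩ := Q.mkQ_surjective x
      exact (Submodule.Quotient.mk_eq_zero Q).2 (hmax _ hpre h hx)
  · exact IsWt.map D hwtN Q.mkQ (fun _ _ => rfl) (by
      rwa [Submodule.mkQ_apply, Ne, Submodule.Quotient.mk_eq_zero])

end Existence

end SplitData

universe v w

/-- The count of the classes of elements of order prime to `p`. -/
theorem card_regClass {G : Type v} [Group G] [Finite G] {P : Cfsg.BNPair G} {p : ℕ} [Fact p.Prime]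
    {Λ : Type w} [CommGroup Λ] [Fintype Λ] [IsCyclic Λ] (D : SplitData P p Λ)
    {wl : Finset P.S → Weyl P} (hwl : HasLongest P wl) (hΛ : p ∣ Nat.card Λ + 1) :
    Nat.card (RegClass G p) = (Nat.card Λ + 1) ^ Nat.card P.S := by
  classical
  let k := AlgebraicClosure (ZMod p)
  haveI : Fintype P.S := Fintype.ofFinite _
  have hpc : ¬ p ∣ Nat.card Λ := fun h =>
    (Fact.out : p.Prime).ne_one (Nat.dvd_one.1 ((Nat.dvd_add_right h).1 hΛ))
  haveI : NeZero (Monoid.exponent Λ : k) := ⟨fun h => hpc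
    (((CharP.cast_eq_zero_iff k p _).1 h).trans Group.exponent_dvd_nat_card)⟩
  obtain ⟨n, d, ρ, hirr, hinj, hall, hn⟩ := exists_irred_list.{v, 0, v} k G p
  rw [← hn]
  -- weights
  let et : (P.S → Λ) ≃* ↥(P.B ⊓ P.N) :=
    (MonoidHom.ofInjective D.coord_inj).trans (MulEquiv.subgroupCongr D.coord_range)
  have het : ∀ f, (et f : G) = D.coord f := fun f => rfl
  have hcor : ∀ s l, et (sgl Λ s l) = ⟨D.cor s l, D.cor_mem s l⟩ := fun s l => Subtype.ext rfl
  let O := P.S → Option (Λ →* kˣ)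
  let θof : O → (↥(P.B ⊓ P.N) →* kˣ) := fun o =>
    (∏ s, (((o s).getD 1).comp (Pi.evalMonoidHom (fun _ : P.S => Λ) s))).comp et.symm.toMonoidHom
  let Lof : O → Set P.S := fun o => {s | o s = none}
  have hθof : ∀ o s l, θof o ⟨D.cor s l, D.cor_mem s l⟩ = (o s).getD 1 l := by
    intro o s l
    rw [← hcor]
    simp only [θof, MonoidHom.comp_apply, MulEquiv.coe_toMonoidHom, MulEquiv.symm_apply_apply,
      MonoidHom.finsetProd_apply, Pi.evalMonoidHom_apply]
    rw [Finset.prod_eq_single s (fun b _ hb => by simp [sgl, hb]) (by simp)]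
    simp [sgl]
  have hext : ∀ θ θ' : ↥(P.B ⊓ P.N) →* kˣ,
      (∀ s l, θ ⟨D.cor s l, D.cor_mem s l⟩ = θ' ⟨D.cor s l, D.cor_mem s l⟩) → θ = θ' := by
    intro θ θ' h
    have h' : θ.comp et.toMonoidHom = θ'.comp et.toMonoidHom := by
      refine MonoidHom.functions_ext _ _ _ fun s l => ?_
      show θ (et _) = θ' (et _)
      rw [show Pi.mulSingle s l = sgl Λ s l by simp [sgl]; congr!, hcor]; exact h s l
    refine MonoidHom.ext fun t => ?_
    obtain ⟨f, rfl⟩ := et.surjective t
    exact DFunLike.congr_fun h' f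
  have hex : ∀ o : O, ∃ i, ∃ v, D.IsWt (ρ i) (θof o) (Lof o) v := by
    intro o
    have htr : ∀ s ∈ Lof o, ∀ l, θof o ⟨D.cor s l, D.cor_mem s l⟩ = 1 := fun s hs l => by
      rw [hθof, show o s = none from hs]; rfl
    obtain ⟨N, Q, σ, v, hσ, hv⟩ := D.exists_irred_of_weight hwl hΛ (θof o) (Lof o) htr
    obtain ⟨i, hi⟩ := hall (N ⧸ Q) σ hσ
    obtain ⟨e, he⟩ := hi.symm
    exact ⟨i, e v, SplitData.IsWt.map D hv e.toLinearMap he fun h => hv.ne (e.map_eq_zero_iff.1 h)⟩
  choose F v hF using hex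
  have hFinj : Function.Injective F := by
    intro o o' h
    obtain ⟨hθ, hL⟩ : θof o = θof o' ∧ Lof o = Lof o' := by
      have key : ∀ {i j : Fin n} (_ : i = j) {θ θ' : ↥(P.B ⊓ P.N) →* kˣ} {L L' : Set P.S} {a b},
          D.IsWt (ρ i) θ L a → D.IsWt (ρ j) θ' L' b → θ = θ' ∧ L = L' := by
        rintro i _ rfl θ θ' L L' a b ha hb
        exact D.weight_unique hΛ (hirr i) ha hb
      exact key h (hF o) (hF o')
    funext s
    have h3 : (o s = none) ↔ (o' s = none) := Set.ext_iff.1 hL s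
    have h4 : (o s).getD 1 = (o' s).getD 1 := MonoidHom.ext fun l => by
      rw [← hθof, ← hθof, hθ]
    rcases ho : o s with _ | a <;> rcases ho' : o' s with _ | a' <;> rw [ho, ho'] at h3 h4
    · exact absurd (h3.1 rfl) (Option.some_ne_none a')
    · exact absurd (h3.2 rfl) (Option.some_ne_none a)
    · exact congrArg some h4
  have hFsurj : Function.Surjective F := by
    intro i
    obtain ⟨θ, L, w, hw⟩ := D.exists_weight hΛ (hirr i)
    let o : O := fun s => if s ∈ L then none else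
      some (θ.comp ((D.cor s).codRestrict (P.B ⊓ P.N) (D.cor_mem s)))
    have hL : Lof o = L := Set.ext fun s => by by_cases h : s ∈ L <;> simp [Lof, o, h]
    have hθ : θof o = θ := hext _ _ fun s l => by
      rw [hθof]
      by_cases h : s ∈ L
      · simp [o, h, hw.triv s h l]
      · simp [o, h]
    have h1 := hF o
    rw [hθ, hL] at h1
    exact ⟨o, hinj _ _ (D.iso_of_weight (hirr _) (hirr i) h1 hw)⟩
  haveI : Finite (Λ →* kˣ) :=
    Finite.of_equiv _ (CommGroup.monoidHom_mulEquiv_of_hasEnoughRootsOfUnity Λ k).some.toEquiv.symm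
  haveI : Fintype (Λ →* kˣ) := Fintype.ofFinite _
  have := Nat.card_congr (Equiv.ofBijective F ⟨hFinj, hFsurj⟩)
  rw [Nat.card_fun, Nat.card_eq_fintype_card (α := Option _), Fintype.card_option,
    ← Nat.card_eq_fintype_card, CommGroup.card_monoidHom_of_hasEnoughRootsOfUnity,
    Nat.card_fin] at this
  exact this.symm

end CfsgLib.CRWeights
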