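import Cfsg.Agent.CRWeights.PowTrace

/-!
# The number of irreducible representations in characteristic `p`
-/

set_option autoImplicit false
set_option linter.style.haveILetI false

open MonoidAlgebra

namespace CfsgLib.CRWeights

universe u

variable {k : Type*} [Field k] {G : Type*} [Group G]

/-- No invariant subspaces but the trivial ones. -/
def Irred {M : Type*} [AddCommGroup M] [Module k M] (ρ : Representation k G M) : Prop :=
  (∃ v : M, v ≠ 0) ∧
    ∀ W : Submodule k M, (∀ g : G, ∀ w ∈ W, ρ g w ∈ W) → W = ⊥ ∨ W = ⊤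

/-- An equivariant linear equivalence exists. -/
def Iso {M M' : Type*} [AddCommGroup M] [Module k M] [AddCommGroup M'] [Module k M']
    (ρ : Representation k G M) (ρ' : Representation k G M') : Prop :=
  ∃ e : M ≃ₗ[k] M', ∀ g x, e (ρ g x) = ρ' g (e x)

theorem Iso.symm {M M' : Type*} [AddCommGroup M] [Module k M] [AddCommGroup M'] [Module k M']
    {ρ : Representation k G M} {ρ' : Representation k G M'} (h : Iso ρ ρ') : Iso ρ' ρ := by
  obtain ⟨e, he⟩ := h
  exact ⟨e.symm, fun g x => e.injective (by simp [he])⟩

theorem Iso.trans {M M' M'' : Type*} [AddCommGroup M] [Module k M] [AddCommGroup M'] [Module k M']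
    [AddCommGroup M''] [Module k M''] {ρ : Representation k G M} {ρ' : Representation k G M'}
    {ρ'' : Representation k G M''} (h : Iso ρ ρ') (h' : Iso ρ' ρ'') : Iso ρ ρ'' := by
  obtain ⟨e, he⟩ := h
  obtain ⟨e', he'⟩ := h'
  exact ⟨e.trans e', fun g x => by simp [he, he']⟩

section Functional

variable [Fintype G]

/-- The linear functional of a function on the group. -/
noncomputable def evalFun (f : G → k) : MonoidAlgebra k G →+ k where
  toFun a := ∑ g, f g * a.coeff g
  map_zero' := by simp
  map_add' a b := by simp [mul_add, Finset.sum_add_distrib]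

theorem evalFun_single (f : G → k) (g : G) (r : k) : evalFun f (single g r) = f g * r := by
  classical
  simp [evalFun, coeff_single, Finsupp.single_apply]

theorem evalFun_comm {f : G → k} (hf : ∀ g h, f (g * h) = f (h * g)) (x y : MonoidAlgebra k G) :
    evalFun f (x * y) = evalFun f (y * x) := by
  induction x using MonoidAlgebra.induction_linear with
  | zero => simp
  | add a b ha hb => rw [add_mul, mul_add, map_add, map_add, ha, hb]
  | single g r =>
    induction y using MonoidAlgebra.induction_linear with
    | zero => simp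
    | add a b ha hb => rw [add_mul, mul_add, map_add, map_add, ha, hb]
    | single h s =>
      rw [single_mul_single, single_mul_single, evalFun_single, evalFun_single, hf, mul_comm r s]

theorem eq_sum_single (a : MonoidAlgebra k G) : a = ∑ g, single g (a.coeff g) := by
  classical
  refine MonoidAlgebra.ext (Finsupp.ext fun g => ?_)
  rw [coeff_sum, Finsupp.finsetSum_apply, Finset.sum_eq_single g]
  · simp [coeff_single]
  · intro h _ hh
    simp [coeff_single, Finsupp.single_apply, hh]
  · simp

variable {p : ℕ} [Fact p.Prime] [CharP k p]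

theorem evalFun_pow : ∀ (n : ℕ) (f : G → k), (∀ g h, f (g * h) = f (h * g)) →
    (∀ g, f g ^ p = f g) → ∀ a : MonoidAlgebra k G,
      evalFun f (a ^ p ^ n) = ∑ g, f (g ^ p ^ n) * a.coeff g ^ p ^ n := by
  intro n
  induction n with
  | zero => intro f _ _ a; simp [evalFun]
  | succ n ih =>
    intro f hf hfp a
    haveI : CharP (MonoidAlgebra k G) p :=
      charP_of_injective_algebraMap (algebraMap k (MonoidAlgebra k G)).injective p
    set f' : G → k := fun g => f (g ^ p) with hf'
    have hf'c : ∀ g h, f' (g * h) = f' (h * g) := by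
      intro g h
      have e : (g * h) ^ p = g * ((h * g) ^ p) * g⁻¹ := by
        rw [show g * h = g * (h * g) * g⁻¹ by group, conj_pow]
      show f ((g * h) ^ p) = f ((h * g) ^ p)
      rw [e, hf, ← mul_assoc, inv_mul_cancel, one_mul]
    have step : ∀ b : MonoidAlgebra k G, evalFun f (b ^ p) = evalFun f' b ^ p := by
      intro b
      conv_lhs => rw [eq_sum_single b]
      rw [map_sum_pow (k := k) (evalFun f) (evalFun_comm hf)]
      simp only [single_pow, evalFun_single]
      show _ = (∑ g, f' g * b.coeff g) ^ p
      rw [sum_pow_char]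
      exact Finset.sum_congr rfl fun g _ => by rw [mul_pow, hfp]
    rw [pow_succ, pow_mul, step, ih f' hf'c (fun g => hfp _), sum_pow_char]
    exact Finset.sum_congr rfl fun g _ => by
      simp only [hf', mul_pow, hfp, ← pow_mul]

theorem evalFun_smul (f : G → k) (r : k) (x : MonoidAlgebra k G) :
    evalFun f (r • x) = r * evalFun f x := by
  simp only [evalFun, AddMonoidHom.coe_mk, ZeroHom.coe_mk, coeff_smul, Finsupp.smul_apply,
    smul_eq_mul, Finset.mul_sum]
  exact Finset.sum_congr rfl fun g _ => by ring

theorem evalFun_pow_add {f : G → k} (hf : ∀ g h, f (g * h) = f (h * g)) (hfp : ∀ g, f g ^ p = f g)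
    (n : ℕ) (a b : MonoidAlgebra k G) :
    evalFun f ((a + b) ^ p ^ n) = evalFun f (a ^ p ^ n) + evalFun f (b ^ p ^ n) := by
  simp only [evalFun_pow n f hf hfp, coeff_add, Finsupp.add_apply, add_pow_char_pow, mul_add,
    Finset.sum_add_distrib]

end Functional

section Count

variable [IsAlgClosed k] [Finite G] (p : ℕ) [Fact p.Prime] [CharP k p]

variable (G) in
/-- The classes of elements of order prime to `p`. -/
abbrev RegClass : Type _ := {c : ConjClasses G // ∃ g, ConjClasses.mk g = c ∧ (orderOf g).Coprime p}

theorem exists_exponent (n : ℕ) : ∃ N, n ≤ p ^ N ∧ 0 < N ∧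
    (∀ g : G, (orderOf (g ^ p ^ N)).Coprime p) ∧
      ∀ g : G, (orderOf g).Coprime p → g ^ p ^ N = g := by
  have hp : p.Prime := Fact.out
  obtain ⟨a, m, hm, hcard⟩ := Nat.exists_eq_pow_mul_and_not_dvd (Nat.card_pos (α := G)).ne' p hp.ne_one
  have hcop : p.Coprime m := hp.coprime_iff_not_dvd.2 hm
  have hm0 : 0 < m := Nat.pos_of_ne_zero fun h => hm (h ▸ dvd_zero p)
  refine ⟨m.totient * (a + n + 1), ?_, Nat.mul_pos (Nat.totient_pos.2 hm0) (Nat.succ_pos _), ?_, ?_⟩
  · refine le_trans ?_ (Nat.lt_pow_self hp.one_lt).le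
    exact le_trans (by omega) (Nat.le_mul_of_pos_left _ (Nat.totient_pos.2 hm0))
  · intro g
    refine Nat.Coprime.coprime_dvd_left (orderOf_dvd_of_pow_eq_one ?_) hcop.symm
    rw [← pow_mul]
    refine orderOf_dvd_iff_pow_eq_one.1 ((orderOf_dvd_natCard g).trans ?_)
    rw [hcard]
    refine Nat.mul_dvd_mul_right (pow_dvd_pow p ?_) m
    exact le_trans (by omega) (Nat.le_mul_of_pos_left _ (Nat.totient_pos.2 hm0))
  · intro g hg
    have hdvd : orderOf g ∣ m := by
      have h := orderOf_dvd_natCard g
      rw [hcard] at h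
      exact (Nat.Coprime.pow_right a hg).dvd_of_dvd_mul_left h
    have h1 : p ^ (m.totient * (a + n + 1)) ≡ 1 [MOD m] := by
      rw [pow_mul]
      simpa using (Nat.ModEq.pow_totient hcop).pow (a + n + 1)
    nth_rw 2 [← pow_one g]
    exact pow_eq_pow_iff_modEq.2 (h1.of_dvd hdvd)

variable (k G) in
/-- The irreducible representations in characteristic `p`, and their number. -/
theorem exists_irred_list :
    ∃ (n : ℕ) (d : Fin n → ℕ) (ρ : ∀ i, Representation k G (Fin (d i) → k)),
      (∀ i, Irred (ρ i)) ∧ (∀ i j, Iso (ρ i) (ρ j) → i = j) ∧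
      (∀ (M : Type u) [AddCommGroup M] [Module k M] (σ : Representation k G M),
        Irred σ → ∃ i, Iso (ρ i) σ) ∧
      n = Nat.card (RegClass G p) := by
  classical
  haveI : Fintype G := Fintype.ofFinite G
  have hp : p.Prime := Fact.out
  let A := MonoidAlgebra k G
  haveI : Module.Finite k A := .of_basis (MonoidAlgebra.basis G k)
  haveI : IsArtinianRing A := IsArtinianRing.of_finite k A
  set J : Ideal A := Ring.jacobson A with hJ
  obtain ⟨n₀, hn₀⟩ : IsNilpotent J := IsSemiprimaryRing.isNilpotent
  haveI : IsSemisimpleRing (A ⧸ J) := IsSemiprimaryRing.isSemisimpleRing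
  haveI : Module.Finite k (A ⧸ J) :=
    Module.Finite.of_surjective (Ideal.Quotient.mkₐ k J).toLinearMap Ideal.Quotient.mk_surjective
  obtain ⟨n, d, hd, ⟨e⟩⟩ :=
    IsSemisimpleRing.exists_algEquiv_pi_matrix_of_isAlgClosed k (A ⧸ J)
  let π : A →ₐ[k] (Π i, Matrix (Fin (d i)) (Fin (d i)) k) :=
    e.toAlgHom.comp (Ideal.Quotient.mkₐ k J)
  have hπs : Function.Surjective π := e.surjective.comp Ideal.Quotient.mk_surjective
  choose sec hsec using hπs
  have hker : ∀ a, π a = 0 → a ∈ J := fun a ha => by
    have : Ideal.Quotient.mk J a = 0 := e.injective (by rw [map_zero]; exact ha)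
    exact Ideal.Quotient.eq_zero_iff_mem.1 this
  have hJn : ∀ x ∈ J, x ^ n₀ = 0 := fun x hx => by
    have := Ideal.pow_mem_pow hx n₀
    rw [hn₀] at this
    exact this
  let z : ∀ i, Fin (d i) := fun i => ⟨0, Nat.pos_of_ne_zero (hd i).out⟩
  let ρ : ∀ i, Representation k G (Fin (d i) → k) := fun i =>
    ((Matrix.toLinAlgEquiv' (R := k) (n := Fin (d i))).toMonoidHom).comp
      (((Pi.evalMonoidHom _ i).comp π.toMonoidHom).comp (MonoidAlgebra.of k G))
  have hρ : ∀ i g (x : Fin (d i) → k), ρ i g x = (π (single g 1) i).mulVec x := fun _ _ _ => rfl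
  have hlin : ∀ i (W : Submodule k (Fin (d i) → k)), (∀ g, ∀ w ∈ W, ρ i g w ∈ W) →
      ∀ a, ∀ w ∈ W, (π a i).mulVec w ∈ W := by
    intro i W hW a w hw
    rw [eq_sum_single a, map_sum, Finset.sum_apply, Matrix.sum_mulVec]
    refine W.sum_mem fun g _ => ?_
    rw [show single g (a.coeff g) = a.coeff g • single g (1 : k) by simp, map_smul, Pi.smul_apply,
      Matrix.smul_mulVec]
    exact W.smul_mem _ (hρ i g w ▸ hW g w hw)
  have hirr : ∀ i, Irred (ρ i) := by
    intro i
    refine ⟨⟨Pi.single (z i) 1, fun h => one_ne_zero (α := k) (by simpa using congrFun h (z i))⟩,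
      fun W hW => ?_⟩
    rw [or_iff_not_imp_left]
    intro hne
    obtain ⟨w, hw, hw0⟩ := Submodule.exists_mem_ne_zero_of_ne_bot hne
    obtain ⟨b, hb⟩ := Function.ne_iff.1 hw0
    rw [eq_top_iff]
    intro x _
    rw [pi_eq_sum_univ' x]
    refine W.sum_mem fun a _ => W.smul_mem _ ?_
    have h := hlin i W hW (sec (Pi.single i (Matrix.single a b (w b)⁻¹))) w hw
    rw [hsec, Pi.single_eq_same, Matrix.single_mulVec_eq] at h
    convert h using 1
    funext j
    rcases eq_or_ne j a with rfl | hj
    · simp [inv_mul_cancel₀ hb]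
    · simp [hj]
  -- traces
  let τ : ∀ i : Fin n, A →ₗ[k] k := fun i =>
    (Matrix.traceLinearMap (Fin (d i)) k k).comp ((LinearMap.proj i).comp π.toLinearMap)
  have hτ : ∀ i a, τ i a = (π a i).trace := fun _ _ => rfl
  have hτc : ∀ i (x y : A), τ i (x * y) = τ i (y * x) := fun i x y => by
    rw [hτ, hτ, map_mul, map_mul, Pi.mul_apply, Pi.mul_apply, Matrix.trace_mul_comm]
  have hsep : ∀ (α : Fin n → k), (∀ g, ∑ i, α i * τ i (single g 1) = 0) → α = 0 := by
    intro α hα
    have hall : ∀ a, ∑ i, α i * τ i a = 0 := by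
      intro a
      induction a using MonoidAlgebra.induction_linear with
      | zero => simp
      | add x y hx hy => simp [mul_add, Finset.sum_add_distrib, hx, hy]
      | single g r =>
        have : single g r = r • single g (1 : k) := by simp
        simp only [this, map_smul, smul_eq_mul, mul_left_comm _ r, ← Finset.mul_sum, hα, mul_zero]
    funext i
    have h := hall (sec (Pi.single i (Matrix.single (z i) (z i) 1)))
    rw [Finset.sum_eq_single i] at h
    · simpa [hτ, hsec] using h
    · intro j _ hj
      simp [hτ, hsec, Pi.single_eq_of_ne hj]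
    · simp
  -- power
  obtain ⟨N, hN0, hN1, hNreg, hNfix⟩ := exists_exponent (G := G) p n₀
  set P := p ^ N with hP
  have hP1 : 0 < P := pow_pos hp.pos N
  let cls : RegClass G p → G → k := fun c g => if ConjClasses.mk g = c.1 then 1 else 0
  have hclsc : ∀ c g h, cls c (g * h) = cls c (h * g) := fun c g h => by
    have : ConjClasses.mk (g * h) = ConjClasses.mk (h * g) :=
      ConjClasses.mk_eq_mk_iff_isConj.2 (isConj_iff.2 ⟨h, by group⟩)
    simp [cls, this]
  have hclsp : ∀ c g, cls c g ^ p = cls c g := fun c g => by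
    by_cases h : ConjClasses.mk g = c.1 <;> simp [cls, h, hp.ne_zero]
  let φ : RegClass G p → A →+ k := fun c =>
    { toFun := fun a => evalFun (cls c) (a ^ P)
      map_zero' := by rw [zero_pow hP1.ne', map_zero]
      map_add' := fun a b => evalFun_pow_add (hclsc c) (hclsp c) N a b }
  have hφ : ∀ c a, φ c a = evalFun (cls c) (a ^ P) := fun _ _ => rfl
  have hφJ : ∀ c, ∀ x ∈ J, φ c x = 0 := fun c x hx => by
    rw [hφ, pow_eq_zero_of_le hN0 (hJn x hx), map_zero]
  have hφc : ∀ c (x y : A), φ c (x * y) = φ c (y * x) := fun c x y => by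
    obtain ⟨P', hP'⟩ : ∃ P', P = P' + 1 := ⟨P - 1, by omega⟩
    have e : (x * y) ^ (P' + 1) = x * ((y * x) ^ P' * y) := by
      rw [pow_succ, ← mul_assoc, mul_pow_mul]
      simp only [mul_assoc]
    rw [hφ, hφ, hP', e, evalFun_comm (hclsc c), pow_succ, mul_assoc]
  let Ψ : RegClass G p → (Π i, Matrix (Fin (d i)) (Fin (d i)) k) → k := fun c X => φ c (sec X)
  have hΨ : ∀ c a, φ c a = Ψ c (π a) := fun c a => by
    have : φ c (a - sec (π a)) = 0 := hφJ c _ (hker _ (by rw [map_sub, hsec, sub_self]))
    rwa [map_sub, sub_eq_zero] at this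
  have hΨadd : ∀ c X Y, Ψ c (X + Y) = Ψ c X + Ψ c Y := fun c X Y => by
    conv_lhs => rw [← hsec X, ← hsec Y, ← map_add, ← hΨ, map_add]
  have hΨc : ∀ c X Y, Ψ c (X * Y) = Ψ c (Y * X) := fun c X Y => by
    conv_lhs => rw [← hsec X, ← hsec Y, ← map_mul, ← hΨ, hφc, hΨ, map_mul, hsec, hsec]
  have hΨs : ∀ c (t : k) X, Ψ c (t • X) = t ^ P * Ψ c X := fun c t X => by
    conv_lhs => rw [← hsec X, ← map_smul, ← hΨ]
    rw [hφ, smul_pow, evalFun_smul, ← hφ]
  have hΨsum : ∀ c {ι : Type} (s : Finset ι) (X : ι → _), Ψ c (∑ j ∈ s, X j) = ∑ j ∈ s, Ψ c (X j) :=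
    fun c {ι} s X => map_sum (AddMonoidHom.mk' (Ψ c) (hΨadd c)) X s
  let E : ∀ i, Fin (d i) → Fin (d i) → k → (Π i, Matrix (Fin (d i)) (Fin (d i)) k) :=
    fun i a b x => Pi.single i (Matrix.single a b x)
  have hE : ∀ c i a b x, Ψ c (E i a b x) = if a = b then x ^ P * Ψ c (E i (z i) (z i) 1) else 0 := by
    intro c i a b x
    rcases eq_or_ne a b with rfl | hab
    · rw [if_pos rfl]
      have e1 : E i a a x = E i a (z i) x * E i (z i) a 1 := by
        simp only [E, ← Pi.single_mul, Matrix.single_mul_single_same, mul_one]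
      have e2 : E i (z i) a 1 * E i a (z i) x = x • E i (z i) (z i) 1 := by
        simp only [E, ← Pi.single_mul, Matrix.single_mul_single_same, one_mul]
        rw [← Pi.single_smul, Matrix.smul_single, smul_eq_mul, mul_one]
      rw [e1, hΨc, e2, hΨs]
    · rw [if_neg hab]
      have e1 : E i a b x = E i a a 1 * E i a b x := by
        simp only [E, ← Pi.single_mul, Matrix.single_mul_single_same, one_mul]
      have e2 : E i a b x * E i a a 1 = 0 := by
        simp only [E, ← Pi.single_mul, Matrix.single_mul_single_of_ne _ _ _ _ hab.symm, Pi.single_zero]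
      have h0 := hΨadd c 0 0
      rw [add_zero, left_eq_add] at h0
      rw [e1, hΨc, e2, h0]
  have hform : ∀ c X, Ψ c X = ∑ i, (X i).trace ^ P * Ψ c (E i (z i) (z i) 1) := by
    intro c X
    have hX : X = ∑ i, ∑ a, ∑ b, E i a b (X i a b) := by
      conv_lhs => rw [← Finset.univ_sum_single X]
      refine Finset.sum_congr rfl fun i _ => ?_
      conv_lhs => rw [(X i).matrix_eq_sum_single]
      show AddMonoidHom.single (fun j => Matrix (Fin (d j)) (Fin (d j)) k) i _ = _
      simp only [map_sum]
      rfl
    conv_lhs => rw [hX]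
    rw [hΨsum]
    refine Finset.sum_congr rfl fun i _ => ?_
    rw [Matrix.trace, hP, sum_pow_char_pow, Finset.sum_mul, hΨsum]
    refine Finset.sum_congr rfl fun a _ => ?_
    rw [hΨsum, Finset.sum_eq_single a (fun b _ hb => by rw [hE, if_neg (Ne.symm hb)])
      (fun h => absurd (Finset.mem_univ a) h), hE, if_pos rfl]
    rfl
  have hφτ : ∀ c a, φ c a = ∑ i, τ i a ^ P * Ψ c (E i (z i) (z i) 1) := fun c a => by
    rw [hΨ, hform]; rfl
  -- the class of a regular element
  let cl : ∀ g : G, (orderOf g).Coprime p → RegClass G p := fun g hg => ⟨_, g, rfl, hg⟩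
  choose rep hrep using fun c : RegClass G p => c.2
  have hφrep : ∀ c c', φ c (single (rep c') 1) = if c = c' then 1 else 0 := by
    intro c c'
    rw [hφ, single_pow, one_pow, evalFun_single, mul_one, hP, hNfix _ (hrep c').2]
    simp only [cls, (hrep c').1, ← Subtype.ext_iff]
    simp [eq_comm]
  refine ⟨n, d, ρ, hirr, ?_, ?_, ?_⟩
  · rintro i j ⟨e', he'⟩
    have htr : ∀ g, τ i (single g 1) = τ j (single g 1) := fun g => by
      have hc : ρ j g = e'.conj (ρ i g) := LinearMap.ext fun x => by
        rw [LinearEquiv.conj_apply_apply, he', LinearEquiv.apply_symm_apply]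
      have := congrArg (LinearMap.trace k _) hc
      rw [LinearMap.trace_conj'] at this
      have ht : ∀ l, LinearMap.trace k _ (ρ l g) = τ l (single g 1) := fun l =>
        Matrix.trace_toLin'_eq _
      rw [ht, ht] at this
      exact this.symm
    by_contra hij
    have := hsep (Pi.single i 1 - Pi.single j 1) fun g => by
      simp [sub_mul, Finset.sum_sub_distrib, Pi.single_apply, htr]
    simpa [Pi.single_eq_of_ne hij, sub_eq_zero] using congrFun this i
  · intro M _ _ σ hσ
    set r : A →ₐ[k] Module.End k M := σ.asAlgebraHom with hr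
    have hrg : ∀ g x, r (single g 1) x = σ g x := fun g x => by
      rw [hr, Representation.asAlgebraHom_single_one]
    have hrJ : ∀ j ∈ J, r j = 0 := by
      intro j hj
      refine LinearMap.ext fun w => ?_
      by_contra hne
      let L : A →ₗ[k] M := (r.toLinearMap.flip (r j w))
      have hLinv : ∀ g : G, ∀ x ∈ LinearMap.range L, σ g x ∈ LinearMap.range L := by
        rintro g _ ⟨a, rfl⟩
        refine ⟨single g 1 * a, ?_⟩
        show r (single g 1 * a) (r j w) = σ g (r a (r j w))
        rw [map_mul, Module.End.mul_apply, hrg]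
      rcases hσ.2 _ hLinv with h | h
      · exact hne (by
          have : r j w ∈ LinearMap.range L := ⟨1, by show r 1 (r j w) = _; simp⟩
          rw [h] at this
          simpa using this)
      · obtain ⟨a, ha⟩ : w ∈ LinearMap.range L := h ▸ Submodule.mem_top
        have ha' : r (a * j) w = w := by rw [map_mul, Module.End.mul_apply]; exact ha
        have hpow : ∀ m, r ((a * j) ^ m) w = w := by
          intro m
          induction m with
          | zero => simp
          | succ m ih => rw [pow_succ, map_mul, Module.End.mul_apply, ha', ih]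
        have hw0 : w = 0 := by
          rw [← hpow n₀, hJn _ (J.mul_mem_left a hj)]; simp
        exact hne (by simp [hw0])
    have hrsec : ∀ a, r a = r (sec (π a)) := fun a => by
      have := hrJ _ (hker (a - sec (π a)) (by rw [map_sub, hsec, sub_self]))
      rwa [map_sub, sub_eq_zero] at this
    have hrmul : ∀ X Y, r (sec (X * Y)) = r (sec X) * r (sec Y) := fun X Y => by
      rw [← map_mul, hrsec (sec X * sec Y), map_mul, hsec, hsec]
    have hradd : ∀ X Y, r (sec (X + Y)) = r (sec X) + r (sec Y) := fun X Y => by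
      rw [← map_add, hrsec (sec X + sec Y), map_add, hsec, hsec]
    obtain ⟨i, w, hw⟩ : ∃ i w, r (sec (E i (z i) (z i) 1)) w ≠ 0 := by
      by_contra hc
      push Not at hc
      obtain ⟨v, hv⟩ := hσ.1
      have h1 : (1 : Π i, Matrix (Fin (d i)) (Fin (d i)) k) =
          ∑ i, ∑ a, E i a (z i) 1 * E i (z i) (z i) 1 * E i (z i) a 1 := by
        funext j
        rw [Finset.sum_apply, Finset.sum_eq_single j]
        · simp only [E, ← Pi.single_mul, Matrix.single_mul_single_same, mul_one, Finset.sum_apply,
            Pi.single_eq_same, Matrix.sum_single_one]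
          rfl
        · intro b _ hb
          simp [E, ← Pi.single_mul, Finset.sum_apply, Pi.single_eq_of_ne (Ne.symm hb)]
        · simp
      have h2 : r (sec 1) v = 0 := by
        rw [h1]
        let S : (Π i, Matrix (Fin (d i)) (Fin (d i)) k) →+ Module.End k M :=
          AddMonoidHom.mk' (fun X => r (sec X)) hradd
        show S _ v = 0
        simp only [map_sum, LinearMap.sum_apply]
        refine Finset.sum_eq_zero fun i _ => Finset.sum_eq_zero fun a _ => ?_
        show r (sec _) v = 0
        rw [hrmul, hrmul, Module.End.mul_apply, Module.End.mul_apply, hc, map_zero]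
      rw [← map_one π, ← hrsec, map_one] at h2
      exact hv h2
    refine ⟨i, ?_⟩
    have hrsmul : ∀ (t : k) X, r (sec (t • X)) = t • r (sec X) := fun t X => by
      rw [← map_smul, hrsec (t • sec X), map_smul π, hsec]
    let col : (Fin (d i) → k) →ₗ[k] Matrix (Fin (d i)) (Fin (d i)) k :=
      { toFun := fun x => Matrix.of fun a b => if b = z i then x a else 0
        map_add' := fun x y => by ext a b; by_cases h : b = z i <;> simp [h]
        map_smul' := fun t x => by ext a b; by_cases h : b = z i <;> simp [h] }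
    let f : (Fin (d i) → k) →ₗ[k] M :=
      { toFun := fun x => r (sec (Pi.single i (col x))) w
        map_add' := fun x y => by rw [map_add, Pi.single_add, hradd, LinearMap.add_apply]
        map_smul' := fun t x => by
          rw [map_smul, Pi.single_smul, hrsmul, LinearMap.smul_apply, RingHom.id_apply] }
    have hcol : ∀ (Y : Matrix (Fin (d i)) (Fin (d i)) k) x, Y * col x = col (Y.mulVec x) := by
      intro Y x
      ext a b
      by_cases h : b = z i <;> simp [col, Matrix.mul_apply, Matrix.mulVec, dotProduct, h]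
    have hf : ∀ g x, f (ρ i g x) = σ g (f x) := by
      intro g x
      show r (sec (Pi.single i (col ((π (single g 1) i).mulVec x)))) w =
        σ g (r (sec (Pi.single i (col x))) w)
      rw [← hrg, hrsec (single g 1), ← Module.End.mul_apply, ← hrmul, ← hcol]
      congr 3
      funext j
      rcases eq_or_ne j i with rfl | hj
      · simp
      · simp [Pi.single_eq_of_ne hj]
    have hfz : f (Pi.single (z i) 1) = r (sec (E i (z i) (z i) 1)) w := by
      show r (sec (Pi.single i (col (Pi.single (z i) 1)))) w = _
      rw [show col (Pi.single (z i) 1) = Matrix.single (z i) (z i) 1 from Matrix.ext fun a b => by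
        by_cases ha : a = z i <;> by_cases hb : b = z i <;>
          simp [col, Matrix.single_apply, ha, hb, Ne.symm]]
    have hinj : Function.Injective f := by
      rw [← LinearMap.ker_eq_bot]
      refine ((hirr i).2 (LinearMap.ker f) fun g x hx => ?_).resolve_right fun h => hw ?_
      · rw [LinearMap.mem_ker] at hx ⊢; rw [hf, hx, map_zero]
      · have : f (Pi.single (z i) 1) = 0 := LinearMap.mem_ker.1 (h ▸ Submodule.mem_top)
        rw [← hfz]
        exact this
    have hsurj : Function.Surjective f := by
      rw [← LinearMap.range_eq_top]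
      refine (hσ.2 _ fun g y hy => ?_).resolve_left fun h => hw ?_
      · obtain ⟨x, rfl⟩ := hy
        exact ⟨_, hf g x⟩
      · have := LinearMap.congr_fun (LinearMap.range_eq_bot.1 h) (Pi.single (z i) 1)
        rw [← hfz]
        exact this
    exact ⟨LinearEquiv.ofBijective f ⟨hinj, hsurj⟩, hf⟩
  · haveI : Fintype (RegClass G p) := Fintype.ofFinite _
    rw [Nat.card_eq_fintype_card]
    refine le_antisymm ?_ ?_
    · have hτP : ∀ i g, τ i (single g 1) = τ i (single (g ^ P) 1) := by
        intro i g
        have h : ∀ g, τ i (single (g ^ P) 1) = τ i (single g 1) ^ P := fun g => by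
          rw [hτ, hτ, show single (g ^ P) (1 : k) = (single g 1) ^ P by rw [single_pow, one_pow],
            map_pow, Pi.pow_apply, hP, trace_pow_char_pow]
        have h2 := h (g ^ P)
        rw [hP, hNfix _ (hNreg g), ← hP, h g] at h2
        rw [h g]
        have hinj := iterateFrobenius_inj k p N
        exact hinj (by simp only [iterateFrobenius_def, ← hP]; exact h2)
      let Φ : (Fin n → k) →ₗ[k] (RegClass G p → k) :=
        Fintype.linearCombination k fun i c => τ i (single (rep c) 1)
      have hΦ : ∀ α c, Φ α c = ∑ i, α i * τ i (single (rep c) 1) := fun α c => by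
        simp [Φ, Fintype.linearCombination_apply, Finset.sum_apply]
      have hinj : Function.Injective Φ := by
        rw [← LinearMap.ker_eq_bot, LinearMap.ker_eq_bot']
        intro α hα
        refine hsep α fun g => ?_
        simp only [hτP _ g]
        have hc := congrFun hα (cl (g ^ P) (hNreg g))
        rw [hΦ, Pi.zero_apply] at hc
        refine Eq.trans (Finset.sum_congr rfl fun i _ => ?_) hc
        obtain ⟨u, hu⟩ := isConj_iff.1 (ConjClasses.mk_eq_mk_iff_isConj.1
          (hrep (cl (g ^ P) (hNreg g))).1)
        generalize rep (cl (g ^ P) (hNreg g)) = t at hu ⊢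
        generalize g ^ P = x at hu ⊢
        subst hu
        rw [← mul_one (1 : k), ← single_mul_single, hτc, single_mul_single,
          inv_mul_cancel_left]
      simpa using LinearMap.finrank_le_finrank_of_injective hinj
    · let v : Fin n → RegClass G p → k := fun i c => Ψ c (E i (z i) (z i) 1)
      have hsurj : Function.Surjective (Fintype.linearCombination k v) := by
        rw [← LinearMap.range_eq_top, eq_top_iff]
        rintro x -
        rw [pi_eq_sum_univ' x]
        refine Submodule.sum_mem _ fun c _ => Submodule.smul_mem _ _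
          ⟨fun i => τ i (single (rep c) 1) ^ P, ?_⟩
        funext c'
        rw [Fintype.linearCombination_apply, Finset.sum_apply]
        simp only [Pi.smul_apply, smul_eq_mul, v, ← hφτ, hφrep, Pi.single_apply]
      simpa using LinearMap.finrank_le_finrank_of_surjective hsurj

end Count

end CfsgLib.CRWeights
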