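import Cfsg.Agent.CRWeights.Modular
import Cfsg.Agent.StCh.Semisimple

/-!
# Split Tits systems with root data in characteristic `p`

The hypotheses needed for the classification of the irreducible representations by weights, and the
Hecke operators `T_s = ∑_{x ∈ X_s} x s` on a representation.
-/

set_option autoImplicit false
set_option linter.style.haveILetI false

namespace CfsgLib.CRWeights

open CfsgLib.BN CfsgLib.StCh

attribute [local instance] torus_normal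

variable {G : Type*} [Group G]

/-- The embedding of a coordinate. -/
noncomputable def sgl {P : Cfsg.BNPair G} (Λ : Type*) [CommGroup Λ] (s : P.S) : Λ →* (P.S → Λ) :=
  letI := Classical.decEq P.S
  MonoidHom.mulSingle (fun _ => Λ) s

/-- The data of a split Tits system. -/
structure SplitData (P : Cfsg.BNPair G) (p : ℕ) (Λ : Type*) [CommGroup Λ] where
  /-- the positive unipotent group -/
  U : Subgroup G
  /-- the negative unipotent group -/
  V : Subgroup G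
  /-- coordinates of the torus -/
  coord : (P.S → Λ) →* G
  coord_inj : Function.Injective coord
  coord_range : coord.range = P.B ⊓ P.N
  pU : IsPGroup p U
  pV : IsPGroup p V
  U_le : U ≤ P.B
  B_eq : ∀ b ∈ P.B, ∃ t ∈ P.B ⊓ P.N, ∃ u ∈ U, b = t * u
  T_U : ∀ t ∈ P.B ⊓ P.N, ∀ u ∈ U, t * u * t⁻¹ ∈ U
  T_V : ∀ t ∈ P.B ⊓ P.N, ∀ y ∈ V, t * y * t⁻¹ ∈ V
  V_conj : ∃ g : G, ∀ y ∈ V, g⁻¹ * y * g ∈ U
  /-- root groups -/
  X : P.S → Subgroup G
  X_le : ∀ s, X s ≤ U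
  X_dvd : ∀ s, p ∣ Nat.card (X s)
  T_X : ∀ s, ∀ t ∈ P.B ⊓ P.N, ∀ x ∈ X s, t * x * t⁻¹ ∈ X s
  X_inj : ∀ s, ∀ x ∈ X s, s.1⁻¹ * x * s.1 ∈ P.B → x = 1
  U_step : ∀ s, ∀ a ∈ U, ∀ x ∈ X s, ∃ x' ∈ X s, ∃ u ∈ U, a * x * s.1 = x' * s.1 * u
  V_step : ∀ s, ∀ y ∈ V, ∃ y' ∈ V, ∃ x ∈ X s, ∃ t ∈ P.B ⊓ P.N, s.1 * y = y' * x * s.1 * t
  X_V : ∀ s, ∀ x ∈ X s, x ≠ 1 → ∃ y ∈ V, ∃ t ∈ P.B ⊓ P.N, ∃ u ∈ U, x * s.1 = y * t * u
  generated : V ⊔ (P.B ⊓ P.N) ⊔ Subgroup.closure P.S = ⊤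
  s_T : ∀ s, ∀ t ∈ P.B ⊓ P.N, ∃ l, s.1⁻¹ * t * s.1 = t * (coord.comp (sgl Λ s)) l
  s_cor : ∀ s l, s.1⁻¹ * (coord.comp (sgl Λ s)) l * s.1 =
    (coord.comp (sgl Λ s)) l⁻¹
  opp : ∀ s, ∃ σ : {x // x ∈ X s ∧ x ≠ 1} ≃ Λ, ∀ x, ∃ a ∈ X s, ∃ b ∈ X s,
    s.1 * x.1 * s.1 = a * s.1 * (coord.comp (sgl Λ s)) (σ x) * b
  coh : ∀ L : Set P.S,
    Subgroup.closure (Subtype.val '' L ∪ ⋃ s ∈ L, Set.range (coord.comp (sgl Λ s))) ⊓
      P.B ≤ Subgroup.closure (⋃ s ∈ L, Set.range (coord.comp (sgl Λ s)))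

variable {P : Cfsg.BNPair G} {p : ℕ} {Λ : Type*} [CommGroup Λ]

namespace SplitData

variable (D : SplitData P p Λ)

/-- The coroot of a simple reflection. -/
noncomputable def cor (s : P.S) : Λ →* G := D.coord.comp (sgl Λ s)

theorem cor_mem (s : P.S) (l : Λ) : D.cor s l ∈ P.B ⊓ P.N := by
  rw [← D.coord_range]; exact ⟨_, rfl⟩

include D in
theorem T_comm {a b : G} (ha : a ∈ P.B ⊓ P.N) (hb : b ∈ P.B ⊓ P.N) : a * b = b * a := by
  rw [← D.coord_range] at ha hb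
  obtain ⟨x, rfl⟩ := ha
  obtain ⟨y, rfl⟩ := hb
  rw [← map_mul, ← map_mul, mul_comm]

include D in
theorem n_conj_mem {n t : G} (hn : n ∈ P.N) (ht : t ∈ P.B ⊓ P.N) :
    n⁻¹ * t * n ∈ P.B ⊓ P.N := by
  refine ⟨?_, P.N.mul_mem (P.N.mul_mem (P.N.inv_mem hn) ht.2) hn⟩
  have := P.conj_mem n⁻¹ ((P.N).inv_mem hn) t ht
  rwa [inv_inv] at this

include D in
theorem sq_mem (s : P.S) : s.1 * s.1 ∈ P.B ⊓ P.N :=
  ⟨P.sq_mem s.1 s.2, mul_mem (P.subset s.2) (P.subset s.2)⟩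

variable [Finite G] [Fintype Λ]

include D in
/-- The torus has order prime to `p`. -/
theorem coprime_torus (hp : p.Prime) (hΛ : p ∣ Nat.card Λ + 1) {t : G} (ht : t ∈ P.B ⊓ P.N) :
    (orderOf t).Coprime p := by
  haveI : Fintype P.S := Fintype.ofFinite _
  rw [← D.coord_range] at ht
  obtain ⟨x, rfl⟩ := ht
  rw [orderOf_injective D.coord D.coord_inj]
  refine Nat.Coprime.coprime_dvd_left (orderOf_dvd_natCard x) ?_
  rw [Nat.card_pi, Finset.prod_const]
  refine Nat.Coprime.pow_left _ (Nat.Coprime.symm (hp.coprime_iff_not_dvd.2 fun h => hp.ne_one ?_))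
  exact Nat.dvd_one.1 ((Nat.dvd_add_right h).1 hΛ)

theorem T_inf_U [Fact p.Prime] (hΛ : p ∣ Nat.card Λ + 1) {t : G} (ht : t ∈ P.B ⊓ P.N)
    (hu : t ∈ D.U) : t = 1 := by
  obtain ⟨n, hn⟩ := D.pU ⟨t, hu⟩
  have h1 : orderOf t ∣ p ^ n :=
    orderOf_dvd_of_pow_eq_one (by simpa using congrArg Subtype.val hn)
  exact orderOf_eq_one_iff.1
    (((D.coprime_torus Fact.out hΛ ht).pow_right n).eq_one_of_dvd h1)

/-- The torus part of an element of `B`. -/
noncomputable def tPart [Fact p.Prime] (hΛ : p ∣ Nat.card Λ + 1) :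
    P.B →* ↥(P.B ⊓ P.N) :=
  MonoidHom.mk' (fun b => ⟨(D.B_eq b.1 b.2).choose, (D.B_eq b.1 b.2).choose_spec.1⟩) fun a b => by
    obtain ⟨ht, u, hu, ea⟩ := (D.B_eq a.1 a.2).choose_spec
    obtain ⟨ht', u', hu', eb⟩ := (D.B_eq b.1 b.2).choose_spec
    obtain ⟨ht'', u'', hu'', ec⟩ := (D.B_eq (a * b).1 (a * b).2).choose_spec
    set t := (D.B_eq a.1 a.2).choose
    set t' := (D.B_eq b.1 b.2).choose
    set t'' := (D.B_eq (a * b).1 (a * b).2).choose
    refine Subtype.ext ?_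
    change t'' = t * t'
    have hc : t'⁻¹ * u * t' ∈ D.U := by
      simpa using D.T_U _ (inv_mem ht') u hu
    have e : t''⁻¹ * (t * t') = u'' * ((t'⁻¹ * u * t') * u')⁻¹ := by
      rw [Subgroup.coe_mul, ea, eb] at ec
      have : t * t' * ((t'⁻¹ * u * t') * u') = t'' * u'' := by rw [← ec]; group
      rw [eq_mul_inv_iff_mul_eq, mul_assoc, this]; group
    exact inv_mul_eq_one.1 (D.T_inf_U hΛ (mul_mem (inv_mem ht'') (mul_mem ht ht'))
      (e ▸ mul_mem hu'' (inv_mem (mul_mem hc hu'))))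

end SplitData

/-! ### Representations -/

section Rep

variable {k : Type*} [Field k] {M : Type*} [AddCommGroup M] [Module k M]

/-- The fixed vectors of a subgroup. -/
def fixSub (ρ : Representation k G M) (H : Subgroup G) : Submodule k M where
  carrier := {v | ∀ h ∈ H, ρ h v = v}
  zero_mem' h _ := map_zero _
  add_mem' {a b} ha hb h hh := by rw [map_add, ha h hh, hb h hh]
  smul_mem' c v hv h hh := by rw [map_smul, hv h hh]

theorem mem_fixSub {ρ : Representation k G M} {H : Subgroup G} {v : M} :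
    v ∈ fixSub ρ H ↔ ∀ h ∈ H, ρ h v = v := Iff.rfl

/-- An eigenvector of the torus. -/
def Eig (ρ : Representation k G M) (θ : ↥(P.B ⊓ P.N) →* kˣ) (v : M) : Prop :=
  ∀ t : ↥(P.B ⊓ P.N), ρ (t : G) v = (θ t : k) • v

theorem rho_mul (ρ : Representation k G M) (a b : G) (v : M) : ρ (a * b) v = ρ a (ρ b v) := by
  rw [map_mul]; rfl

end Rep

namespace SplitData

variable (D : SplitData P p Λ) [Finite G]
variable {k : Type*} [Field k] {M : Type*} [AddCommGroup M] [Module k M]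

/-- The Hecke operator of a simple reflection. -/
noncomputable def op (ρ : Representation k G M) (s : P.S) : M →ₗ[k] M :=
  letI := Fintype.ofFinite (D.X s)
  ∑ x : D.X s, ρ ((x : G) * s.1)

theorem op_apply (ρ : Representation k G M) (s : P.S) [Fintype (D.X s)] (v : M) :
    D.op ρ s v = ∑ x : D.X s, ρ ((x : G) * s.1) v := by
  rw [op, LinearMap.sum_apply]
  exact Finset.sum_congr (Finset.ext fun x => by simp) fun x _ => rfl

theorem op_equivariant {M' : Type*} [AddCommGroup M'] [Module k M'] {ρ : Representation k G M}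
    {ρ' : Representation k G M'} (f : M →ₗ[k] M') (hf : ∀ g x, f (ρ g x) = ρ' g (f x))
    (s : P.S) (v : M) : f (D.op ρ s v) = D.op ρ' s (f v) := by
  letI := Fintype.ofFinite (D.X s)
  rw [D.op_apply, D.op_apply, map_sum]
  exact Finset.sum_congr rfl fun x _ => hf _ _

theorem op_mem_fix {ρ : Representation k G M} (s : P.S) {v : M} (hv : v ∈ fixSub ρ D.U) :
    D.op ρ s v ∈ fixSub ρ D.U := by
  classical
  letI := Fintype.ofFinite (D.X s)
  intro a ha
  choose f hf u hu e using fun x : D.X s => D.U_step s a ha x x.2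
  have hinj : Function.Injective fun x : D.X s => (⟨f x, hf x⟩ : D.X s) := by
    intro x y hxy
    have hxy' : f x = f y := congrArg Subtype.val hxy
    have e1 := e x
    have e2 := e y
    rw [hxy'] at e1
    have h : (s.1)⁻¹ * ((y : G)⁻¹ * x) * s.1 = (u y)⁻¹ * u x := by
      have : (a * y * s.1)⁻¹ * (a * x * s.1) = (f y * s.1 * u y)⁻¹ * (f y * s.1 * u x) := by
        rw [e1, e2]
      rw [show (s.1)⁻¹ * ((y : G)⁻¹ * x) * s.1 = (a * y * s.1)⁻¹ * (a * x * s.1) by group, this]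
      group
    have h1 := D.X_inj s _ (mul_mem (inv_mem y.2) x.2)
      (h ▸ mul_mem (inv_mem (D.U_le (hu y))) (D.U_le (hu x)))
    exact Subtype.ext (inv_mul_eq_one.1 h1).symm
  rw [D.op_apply, map_sum]
  refine Fintype.sum_bijective _ (Finite.injective_iff_bijective.1 hinj) _ _ fun x => ?_
  rw [← rho_mul, ← mul_assoc, e, rho_mul, hv _ (hu x)]

theorem smul_fix {ρ : Representation k G M} {t : G} (ht : t ∈ P.B ⊓ P.N) {v : M}
    (hv : v ∈ fixSub ρ D.U) : ρ t v ∈ fixSub ρ D.U := by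
  intro a ha
  rw [← rho_mul, show a * t = t * (t⁻¹ * a * t) by group, rho_mul,
    hv _ (by simpa using D.T_U _ (inv_mem ht) a ha)]

variable [Fintype Λ]

/-- The eigenvalue of a Hecke operator on its image. -/
noncomputable def cval (θ : ↥(P.B ⊓ P.N) →* kˣ) (s : P.S) : k :=
  haveI := Classical.propDecidable
  if ∀ l, θ ⟨D.cor s l, D.cor_mem s l⟩ = 1 then -1 else 0

theorem op_sq [CharP k p] (hΛ : p ∣ Nat.card Λ + 1) {ρ : Representation k G M}
    {θ : ↥(P.B ⊓ P.N) →* kˣ} (s : P.S) {v : M} (hv : v ∈ fixSub ρ D.U) (hθ : Eig ρ θ v) :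
    D.op ρ s (D.op ρ s v) = D.cval θ s • D.op ρ s v := by
  classical
  letI := Fintype.ofFinite (D.X s)
  obtain ⟨σ, hσ⟩ := D.opp s
  choose a ha b hb e using hσ
  set w := D.op ρ s v with hw
  have key : ∀ x : {x // x ∈ D.X s ∧ x ≠ 1},
      ∑ y : D.X s, ρ ((y : G) * s.1 * ((x : G) * s.1)) v =
        (θ ⟨D.cor s (σ x), D.cor_mem s _⟩ : k) • w := by
    intro x
    rw [hw, D.op_apply, Finset.smul_sum, ← Equiv.sum_comp (Equiv.mulRight (⟨a x, ha x⟩ : D.X s))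
      (fun y : D.X s => (θ ⟨D.cor s (σ x), D.cor_mem s _⟩ : k) • ρ ((y : G) * s.1) v)]
    refine Finset.sum_congr rfl fun y _ => ?_
    rw [show (y : G) * s.1 * ((x : G) * s.1) = (y : G) * (s.1 * (x : G) * s.1) by group, e]
    have h1 : ρ (b x) v = v := hv _ (D.X_le s (hb x))
    have h2 := hθ ⟨_, D.cor_mem s (σ x)⟩
    simp only [Equiv.coe_mulRight, Subgroup.coe_mul]
    rw [show (y : G) * (a x * s.1 * (D.coord.comp (sgl Λ s)) (σ x) * b x) =
      ((y : G) * a x * s.1) * (D.cor s (σ x) * b x) by simp only [mul_assoc]; rfl]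
    rw [rho_mul, rho_mul _ (D.cor s (σ x)), h1, h2, map_smul]
  have hX0 : (Fintype.card (D.X s) : k) = 0 := by
    rw [← Nat.card_eq_fintype_card]
    exact (CharP.cast_eq_zero_iff k p _).2 (D.X_dvd s)
  have hzero : ∑ y : D.X s, ρ ((y : G) * s.1 * ((1 : G) * s.1)) v = 0 := by
    have h2 : ∀ y : D.X s, ρ ((y : G) * s.1 * ((1 : G) * s.1)) v = ρ (s.1 * s.1) v := fun y => by
      rw [one_mul, mul_assoc, rho_mul]
      exact D.smul_fix (D.sq_mem s) hv _ (D.X_le s y.2)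
    rw [Finset.sum_congr rfl fun y _ => h2 y, Finset.sum_const, Finset.card_univ,
      ← Nat.cast_smul_eq_nsmul k, hX0, zero_smul]
  rw [D.op_apply]
  rw [show (∑ y : D.X s, ρ ((y : G) * s.1) w) =
      ∑ x : D.X s, ∑ y : D.X s, ρ ((y : G) * s.1 * ((x : G) * s.1)) v from ?_]
  rotate_left
  · rw [hw, D.op_apply, Finset.sum_comm]
    simp only [map_sum, ← rho_mul]
  rw [← Finset.add_sum_erase _ _ (Finset.mem_univ (1 : D.X s)), Subgroup.coe_one, hzero, zero_add]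
  have hre : ∑ x ∈ Finset.univ.erase (1 : D.X s), ∑ y : D.X s, ρ ((y : G) * s.1 * ((x : G) * s.1)) v =
      ∑ l : Λ, (θ ⟨D.cor s l, D.cor_mem s _⟩ : k) • w := by
    have hne : ∀ x ∈ Finset.univ.erase (1 : D.X s), (x : G) ∈ D.X s ∧ (x : G) ≠ 1 := fun x hx =>
      ⟨x.2, fun h => Finset.ne_of_mem_erase hx (Subtype.ext h)⟩
    refine Finset.sum_bij' (fun x hx => σ ⟨(x : G), hne x hx⟩)
      (fun l _ => (⟨(σ.symm l).1, (σ.symm l).2.1⟩ : D.X s)) ?_ ?_ ?_ ?_ ?_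
    · exact fun _ _ => Finset.mem_univ _
    · intro l _
      refine Finset.mem_erase.2 ⟨fun h => (σ.symm l).2.2 (congrArg Subtype.val h), Finset.mem_univ _⟩
    · intro x hx; simp
    · intro l _; simp
    · intro x hx; exact key ⟨(x : G), hne x hx⟩
  rw [hre, ← Finset.sum_smul]
  congr 1
  let f : Λ →* k := (Units.coeHom k).comp
    (θ.comp ((D.cor s).codRestrict (P.B ⊓ P.N) (D.cor_mem s)))
  have hf : ∀ l, f l = (θ ⟨D.cor s l, D.cor_mem s l⟩ : k) := fun _ => rfl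
  have := sum_hom_units f
  simp only [hf] at this
  rw [this, cval]
  by_cases h : ∀ l, θ ⟨D.cor s l, D.cor_mem s l⟩ = 1
  · rw [if_pos h, if_pos (MonoidHom.ext fun l => by rw [hf, h]; rfl)]
    have h0 : ((Fintype.card Λ + 1 : ℕ) : k) = 0 := by
      rw [← Nat.card_eq_fintype_card]; exact (CharP.cast_eq_zero_iff k p _).2 hΛ
    push_cast at h0
    exact eq_neg_of_add_eq_zero_left h0
  · rw [if_neg h, if_neg fun hh => h fun l => Units.ext (by rw [← hf, hh]; rfl), Nat.cast_zero]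

/-- A vector with a given weight. -/
structure IsWt (ρ : Representation k G M) (θ : ↥(P.B ⊓ P.N) →* kˣ) (L : Set P.S) (v : M) : Prop where
  ne : v ≠ 0
  fix : v ∈ fixSub ρ D.U
  eig : Eig ρ θ v
  triv : ∀ s ∈ L, ∀ l, θ ⟨D.cor s l, D.cor_mem s l⟩ = 1
  op_in : ∀ s ∈ L, D.op ρ s v = 0
  op_out : ∀ s ∉ L, D.op ρ s v = D.cval θ s • v

end SplitData

end CfsgLib.CRWeights
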