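import Cfsg.Agent.CRWeights.SplitData
import Cfsg.Agent.StDefZero.Lemmas

/-!
# An irreducible representation is determined by its weight
-/

set_option autoImplicit false
set_option linter.style.haveILetI false
set_option linter.unusedSectionVars false

namespace CfsgLib.CRWeights

open CfsgLib.BN

attribute [local instance] torus_normal

variable {G : Type*} [Group G] {k : Type*} [Field k]

section Rep

variable {M : Type*} [AddCommGroup M] [Module k M]

/-- Stable under the representation. -/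
def Inv (ρ : Representation k G M) (W : Submodule k M) : Prop := ∀ g : G, ∀ w ∈ W, ρ g w ∈ W

/-- The vector generates the representation. -/
def Gen (ρ : Representation k G M) (v : M) : Prop := ∀ W : Submodule k M, Inv ρ W → v ∈ W → W = ⊤

theorem Irred.gen {ρ : Representation k G M} (h : Irred ρ) {v : M} (hv : v ≠ 0) : Gen ρ v :=
  fun W hW hvW => (h.2 W hW).resolve_left fun e => hv (by rw [e] at hvW; exact hvW)

theorem inv_of_generators [Finite G] {ρ : Representation k G M} {W : Submodule k M} (S : Set G)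
    (hS : Subgroup.closure S = ⊤) (h : ∀ g ∈ S, ∀ w ∈ W, ρ g w ∈ W) : Inv ρ W := by
  intro g
  have hg : g ∈ Submonoid.closure S := by
    rw [← Subgroup.closure_toSubmonoid_of_finite, Subgroup.mem_toSubmonoid, hS]
    exact Subgroup.mem_top g
  induction hg using Submonoid.closure_induction with
  | mem x hx => exact h x hx
  | one => intro w hw; simpa using hw
  | mul a b _ _ ha hb => intro w hw; rw [rho_mul]; exact ha _ (hb _ hw)

theorem gens_inj {M' : Type*} [AddCommGroup M'] [Module k M'] {ρ : Representation k G M}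
    {ρ' : Representation k G M'} (f : M →ₗ[k] M') (hf : ∀ g x, f (ρ g x) = ρ' g (f x)) :
    Inv ρ (LinearMap.ker f) ∧ Inv ρ' (LinearMap.range f) := by
  refine ⟨fun g w hw => ?_, ?_⟩
  · rw [LinearMap.mem_ker] at hw ⊢; rw [hf, hw, map_zero]
  · rintro g _ ⟨x, rfl⟩; exact ⟨_, hf g x⟩

/-- The restriction to an invariant subspace. -/
noncomputable def resRep (ρ : Representation k G M) {W : Submodule k M} (hW : Inv ρ W) :
    Representation k G W :=
  { toFun := fun g => (ρ g).restrict (hW g)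
    map_one' := LinearMap.ext fun w => Subtype.ext (by simp)
    map_mul' := fun a b => LinearMap.ext fun w => Subtype.ext (rho_mul ρ a b w) }

/-- The quotient by an invariant subspace. -/
noncomputable def quotRep (ρ : Representation k G M) {W : Submodule k M} (hW : Inv ρ W) :
    Representation k G (M ⧸ W) :=
  { toFun := fun g => W.mapQ W (ρ g) (fun w hw => hW g w hw)
    map_one' := Submodule.linearMap_qext W (LinearMap.ext fun w => by simp)
    map_mul' := fun a b => Submodule.linearMap_qext W (LinearMap.ext fun w => by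
      show Submodule.Quotient.mk (ρ (a * b) w) = Submodule.Quotient.mk (ρ a (ρ b w))
      rw [rho_mul]) }

theorem ker_eq_max {X : Type*} [AddCommGroup X] [Module k X] {ρ : Representation k G M}
    {τ : Representation k G X} {Q : Submodule k M} (hQ : Inv ρ Q) {w : M} (hwQ : w ∉ Q)
    (hmax : ∀ Q' : Submodule k M, Inv ρ Q' → Q' ≠ ⊤ → Q' ≤ Q) (F : M →ₗ[k] X)
    (hF : ∀ g x, F (ρ g x) = τ g (F x)) (hτ : Irred τ) (h0 : F w ≠ 0) :
    LinearMap.ker F = Q ∧ Function.Surjective F := by
  have hker : LinearMap.ker F ≤ Q := hmax _ (gens_inj F hF).1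
    fun h => h0 (LinearMap.mem_ker.1 (h ▸ Submodule.mem_top))
  refine ⟨le_antisymm hker fun x hx => ?_, LinearMap.range_eq_top.1
    ((hτ.2 _ (gens_inj F hF).2).resolve_left fun h => h0 (by
      have : F w ∈ LinearMap.range F := LinearMap.mem_range_self F w
      rw [h] at this; simpa using this))⟩
  have hinv : Inv τ (Q.map F) := by
    rintro g _ ⟨z, hz, rfl⟩
    exact ⟨ρ g z, hQ g z hz, hF g z⟩
  rcases hτ.2 _ hinv with h | h
  · exact LinearMap.mem_ker.2 ((Submodule.mem_bot k).1 (h ▸ Submodule.mem_map_of_mem hx))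
  · exfalso
    obtain ⟨z, hz, hz'⟩ : F w ∈ Q.map F := h ▸ Submodule.mem_top
    refine hwQ ?_
    have : w - z ∈ Q := hker (LinearMap.mem_ker.2 (by rw [map_sub, hz', sub_self]))
    simpa using Q.add_mem this hz

theorem Inv.top (ρ : Representation k G M) : Inv ρ ⊤ := fun _ _ _ => Submodule.mem_top

end Rep

namespace SplitData

variable {P : Cfsg.BNPair G} {p : ℕ} {Λ : Type*} [CommGroup Λ] [Fintype Λ] [Finite G]
  (D : SplitData P p Λ) {M : Type*} [AddCommGroup M] [Module k M]
  {ρ : Representation k G M} {θ : ↥(P.B ⊓ P.N) →* kˣ} {L : Set P.S} {v : M}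

theorem IsWt.map {M' : Type*} [AddCommGroup M'] [Module k M'] {ρ' : Representation k G M'}
    (hv : D.IsWt ρ θ L v) (f : M →ₗ[k] M') (hf : ∀ g x, f (ρ g x) = ρ' g (f x)) (h0 : f v ≠ 0) :
    D.IsWt ρ' θ L (f v) where
  ne := h0
  fix a ha := by rw [← hf, hv.fix a ha]
  eig t := by rw [← hf, hv.eig t, map_smul]
  triv := hv.triv
  op_in s hs := by rw [← D.op_equivariant f hf, hv.op_in s hs, map_zero]
  op_out s hs := by rw [← D.op_equivariant f hf, hv.op_out s hs, map_smul]

/-- The translates of a weight vector under `V` span. -/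
theorem span_eq_top (hv : D.IsWt ρ θ L v) (hgen : Gen ρ v) :
    Submodule.span k (Set.range fun y : D.V => ρ (y : G) v) = ⊤ := by
  classical
  set W := Submodule.span k (Set.range fun y : D.V => ρ (y : G) v) with hW
  have hy : ∀ y ∈ D.V, ρ y v ∈ W := fun y hy => Submodule.subset_span ⟨⟨y, hy⟩, rfl⟩
  have hvW : v ∈ W := by simpa using hy 1 (one_mem _)
  have hext : ∀ g : G, (∀ y ∈ D.V, ρ g (ρ y v) ∈ W) → ∀ w ∈ W, ρ g w ∈ W := by
    intro g hg w hw
    induction hw using Submodule.span_induction with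
    | mem w hw => obtain ⟨y, rfl⟩ := hw; exact hg y y.2
    | zero => rw [map_zero]; exact W.zero_mem
    | add a b _ _ ha hb => rw [map_add]; exact W.add_mem ha hb
    | smul c a _ ha => rw [map_smul]; exact W.smul_mem c ha
  have hVW : ∀ y ∈ D.V, ∀ w ∈ W, ρ y w ∈ W := fun y hy' => hext y fun y' hy'' => by
    rw [← rho_mul]; exact hy _ (mul_mem hy' hy'')
  have hTW : ∀ t ∈ P.B ⊓ P.N, ∀ w ∈ W, ρ t w ∈ W := fun t ht => hext t fun y hy' => by
    rw [← rho_mul, show t * y = t * y * t⁻¹ * t by group, rho_mul, hv.eig ⟨t, ht⟩, map_smul]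
    exact W.smul_mem _ (hy _ (D.T_V t ht y hy'))
  have hxs : ∀ (s : P.S), ∀ x ∈ D.X s, ρ (x * s.1) v ∈ W := by
    intro s x hx
    have hne : ∀ x ∈ D.X s, x ≠ 1 → ρ (x * s.1) v ∈ W := fun x hx hx1 => by
      obtain ⟨y, hy', t, ht, u, hu, e⟩ := D.X_V s x hx hx1
      rw [e, rho_mul, hv.fix u hu, rho_mul, hv.eig ⟨t, ht⟩, map_smul]
      exact W.smul_mem _ (hy y hy')
    rcases ne_or_eq x 1 with hx1 | rfl
    · exact hne x hx hx1
    have hop : D.op ρ s v ∈ W := by
      by_cases hs : s ∈ L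
      · rw [hv.op_in s hs]; exact W.zero_mem
      · rw [hv.op_out s hs]; exact W.smul_mem _ hvW
    letI := Fintype.ofFinite (D.X s)
    rw [D.op_apply, ← Finset.add_sum_erase _ _ (Finset.mem_univ (1 : D.X s))] at hop
    refine (W.add_mem_iff_left ?_).1 hop
    exact W.sum_mem fun z hz => hne z z.2 fun h => Finset.ne_of_mem_erase hz (Subtype.ext h)
  have hsW : ∀ s ∈ P.S, ∀ w ∈ W, ρ s w ∈ W := fun s hs => hext s fun y hy' => by
    obtain ⟨y', hy'', x, hx, t, ht, e⟩ := D.V_step ⟨s, hs⟩ y hy'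
    rw [← rho_mul, e, rho_mul, hv.eig ⟨t, ht⟩, map_smul, mul_assoc, rho_mul]
    exact W.smul_mem _ (hVW y' hy'' _ (hxs ⟨s, hs⟩ x hx))
  refine hgen W (inv_of_generators ((D.V : Set G) ∪ ((P.B ⊓ P.N : Subgroup G) : Set G) ∪ P.S) ?_ ?_) hvW
  · rw [Subgroup.closure_union, Subgroup.closure_union, Subgroup.closure_eq, Subgroup.closure_eq]
    exact D.generated
  · rintro g ((hg | hg) | hg)
    exacts [hVW g hg, hTW g hg, hsW g hg]

/-- An invariant functional. -/
def FixFun (φ : Module.Dual k M) : Prop := ∀ y ∈ D.V, ∀ x, φ (ρ y x) = φ x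

theorem fixFun_unique (hv : D.IsWt ρ θ L v) (hgen : Gen ρ v) {φ : Module.Dual k M}
    (hφ : D.FixFun (ρ := ρ) φ) (h0 : φ v = 0) : φ = 0 := by
  refine LinearMap.ext fun x => ?_
  have hx : x ∈ Submodule.span k (Set.range fun y : D.V => ρ (y : G) v) := by
    rw [D.span_eq_top hv hgen]; exact Submodule.mem_top
  induction hx using Submodule.span_induction with
  | mem w hw => obtain ⟨y, rfl⟩ := hw; simp [hφ y y.2, h0]
  | zero => simp
  | add a b _ _ ha hb => simp [map_add, ha, hb]
  | smul c a _ ha => simp [map_smul, ha]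

variable [CharP k p] [Fact p.Prime]

/-- A proper invariant subspace is killed by an invariant functional which is nonzero at `v`. -/
theorem exists_fixFun (hv : D.IsWt ρ θ L v) (hgen : Gen ρ v) {Q : Submodule k M} (hQ : Inv ρ Q)
    (hQt : Q ≠ ⊤) : ∃ φ : Module.Dual k M, D.FixFun (ρ := ρ) φ ∧ φ v = 1 ∧ ∀ x ∈ Q, φ x = 0 := by
  obtain ⟨x, -, hx⟩ := SetLike.exists_of_lt (lt_top_iff_ne_top.2 hQt)
  obtain ⟨ψ, hψ, hψQ⟩ := Submodule.exists_dual_map_eq_bot_of_notMem hx inferInstance
  let τ : D.V →* Module.End k (Module.Dual k M) :=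
    { toFun := fun y => (ρ ((y : G)⁻¹)).dualMap
      map_one' := LinearMap.ext fun φ => LinearMap.ext fun x => by simp
      map_mul' := fun a b => LinearMap.ext fun φ => LinearMap.ext fun x => by
        simp }
  have hst : ∀ q, ∀ z ∈ Q.dualAnnihilator, τ q z ∈ Q.dualAnnihilator := by
    intro q z hz
    rw [Submodule.mem_dualAnnihilator] at hz ⊢
    exact fun w hw => hz _ (hQ _ w hw)
  have hψA : ψ ∈ Q.dualAnnihilator := by
    rw [Submodule.mem_dualAnnihilator]
    intro w hw
    exact (Submodule.mem_bot k).1 (hψQ ▸ Submodule.mem_map_of_mem hw)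
  obtain ⟨φ, hφA, hφ0, hfix⟩ := CfsgLib.DefectZero.exists_fixed_ne_zero D.pV τ _ hst hψA
    (fun e => hψ (by rw [e]; rfl))
  have hF : D.FixFun (ρ := ρ) φ := fun y hy x => by
    have := LinearMap.congr_fun (hfix ⟨y⁻¹, inv_mem hy⟩) x
    simpa [τ] using this
  have hne : φ v ≠ 0 := fun h => hφ0 (D.fixFun_unique hv hgen hF h)
  rw [Submodule.mem_dualAnnihilator] at hφA
  refine ⟨(φ v)⁻¹ • φ, fun y hy x => by simp [hF y hy x], by simp [hne], fun w hw => by
    simp [hφA w hw]⟩

theorem exists_max (hv : D.IsWt ρ θ L v) (hgen : Gen ρ v) :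
    ∃ Q : Submodule k M, Inv ρ Q ∧ v ∉ Q ∧ ∀ Q' : Submodule k M, Inv ρ Q' → Q' ≠ ⊤ → Q' ≤ Q := by
  have hbot : (⊥ : Submodule k M) ≠ ⊤ := fun h => hv.ne (by
    have : v ∈ (⊥ : Submodule k M) := h ▸ Submodule.mem_top
    simpa using this)
  obtain ⟨φ, hφ, hφv, -⟩ := D.exists_fixFun hv hgen (Q := ⊥)
    (fun g w hw => by rw [Submodule.mem_bot] at hw ⊢; rw [hw, map_zero]) hbot
  let Q : Submodule k M := ⨅ g : G, LinearMap.ker (φ.comp (ρ g))
  have hmem : ∀ x, x ∈ Q ↔ ∀ g, φ (ρ g x) = 0 := fun x => by simp [Q, Submodule.mem_iInf]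
  refine ⟨Q, fun g w hw => (hmem _).2 fun h => ?_, fun h => ?_, fun Q' hQ' hQt x hx => (hmem x).2 fun g => ?_⟩
  · rw [← rho_mul]; exact (hmem w).1 hw _
  · simpa [hφv] using (hmem v).1 h 1
  · obtain ⟨φ', hφ', hφ'v, hkill⟩ := D.exists_fixFun hv hgen hQ' hQt
    have : φ - φ' = 0 := D.fixFun_unique hv hgen
      (fun y hy x => by simp [hφ y hy x, hφ' y hy x]) (by simp [hφv, hφ'v])
    rw [sub_eq_zero.1 this]
    exact hkill _ (hQ' g x hx)

/-- Irreducible representations with the same weight are isomorphic. -/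
theorem iso_of_weight {M' : Type*} [AddCommGroup M'] [Module k M'] {ρ' : Representation k G M'}
    (hirr : Irred ρ) (hirr' : Irred ρ') {v' : M'} (hv : D.IsWt ρ θ L v) (hv' : D.IsWt ρ' θ L v') :
    Iso ρ ρ' := by
  classical
  let π : Representation k G (M × M') :=
    { toFun := fun g => (ρ g).prodMap (ρ' g)
      map_one' := LinearMap.ext fun z => by simp
      map_mul' := fun a b => LinearMap.ext fun z => Prod.ext (rho_mul ρ a b z.1) (rho_mul ρ' a b z.2) }
  let N : Submodule k (M × M') := Submodule.span k (Set.range fun g : G => π g (v, v'))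
  have hN : Inv π N := by
    intro g w hw
    induction hw using Submodule.span_induction with
    | mem w hw =>
      obtain ⟨h, rfl⟩ := hw
      exact Submodule.subset_span ⟨g * h, rho_mul π g h _⟩
    | zero => rw [map_zero]; exact N.zero_mem
    | add a b _ _ ha hb => rw [map_add]; exact N.add_mem ha hb
    | smul c a _ ha => rw [map_smul]; exact N.smul_mem c ha
  let σ := resRep π hN
  let w : N := ⟨(v, v'), Submodule.subset_span ⟨1, by simp⟩⟩
  let f : N →ₗ[k] M := (LinearMap.fst k M M').comp N.subtype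
  let f' : N →ₗ[k] M' := (LinearMap.snd k M M').comp N.subtype
  have hf : ∀ g x, f (σ g x) = ρ g (f x) := fun _ _ => rfl
  have hf' : ∀ g x, f' (σ g x) = ρ' g (f' x) := fun _ _ => rfl
  have hgen : Gen σ w := by
    intro W hW hw
    refine Submodule.eq_top_iff'.2 fun x => ?_
    obtain ⟨x, hx⟩ := x
    induction hx using Submodule.span_induction with
    | mem z hz => obtain ⟨g, rfl⟩ := hz; exact hW g w hw
    | zero => exact W.zero_mem
    | add a b ha hb iha ihb => exact W.add_mem iha ihb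
    | smul c a ha iha => exact W.smul_mem c iha
  have hwt : D.IsWt σ θ L w := by
    refine ⟨fun h => hv.ne (congrArg f h), fun a ha => Subtype.ext (Prod.ext ?_ ?_), fun t =>
      Subtype.ext (Prod.ext ?_ ?_), hv.triv, fun s hs => Subtype.ext (Prod.ext ?_ ?_),
      fun s hs => Subtype.ext (Prod.ext ?_ ?_)⟩
    · exact hv.fix a ha
    · exact hv'.fix a ha
    · exact hv.eig t
    · exact hv'.eig t
    · exact (D.op_equivariant f hf s w).trans (hv.op_in s hs)
    · exact (D.op_equivariant f' hf' s w).trans (hv'.op_in s hs)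
    · exact (D.op_equivariant f hf s w).trans (hv.op_out s hs)
    · exact (D.op_equivariant f' hf' s w).trans (hv'.op_out s hs)
  obtain ⟨Q, hQ, hwQ, hmax⟩ := D.exists_max hwt hgen
  obtain ⟨h1, h2⟩ := ker_eq_max hQ hwQ hmax f hf hirr hv.ne
  obtain ⟨h1', h2'⟩ := ker_eq_max hQ hwQ hmax f' hf' hirr' hv'.ne
  let e : M ≃ₗ[k] M' := (f.quotKerEquivOfSurjective h2).symm.trans
    ((Submodule.quotEquivOfEq _ _ (h1.trans h1'.symm)).trans (f'.quotKerEquivOfSurjective h2'))
  have he : ∀ x, e (f x) = f' x := by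
    intro x
    have : (f.quotKerEquivOfSurjective h2).symm (f x) = Submodule.Quotient.mk x :=
      (LinearEquiv.symm_apply_eq _).2 rfl
    simp [e, this]
  refine ⟨e, fun g x => ?_⟩
  obtain ⟨x, rfl⟩ := h2 x
  rw [← hf, he, he, hf']

end SplitData

end CfsgLib.CRWeights
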